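import Cfsg.Agent.Lib.SUSubfield.Main
import Cfsg.Agent.Lib.Classical.UnitaryStandard

/-!
Maximality of the subfield subgroup of odd prime degree in the special unitary group.
-/

set_option autoImplicit false

namespace Cfsg.Agent.Lib.SUSubfield

open Matrix Cfsg.Agent.Lib Cfsg.Agent.Lib.SubfieldMax

variable {F : Type*} [Field F]

/-- The conjugation does not fix a subfield of odd index pointwise. -/
theorem exists_moved [Finite F] {σ : F →+* F} (hσ : ∀ a, σ (σ a) = a) (hne : σ ≠ RingHom.id F) (K : Subfield F)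
    (r : ℕ) (hro : Odd r) (hcard : Nat.card F = Nat.card K ^ r) : ∃ a ∈ K, σ a ≠ a := by
  by_contra hall
  push Not at hall
  obtain ⟨t, ht⟩ : ∃ t, σ t ≠ t := by
    by_contra h; push Not at h; exact hne (RingHom.ext h)
  let W : Submodule K F :=
    { carrier := {x | σ x = x}
      add_mem' := fun {a b} ha hb => by
        simp only [Set.mem_setOf_eq] at ha hb ⊢
        rw [map_add, ha, hb]
      zero_mem' := map_zero σ
      smul_mem' := fun k a ha => by
        simp only [Set.mem_setOf_eq] at ha ⊢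
        show σ ((k : F) * a) = (k : F) * a
        rw [map_mul, hall k k.2, ha] }
  have hbij : Function.Bijective (fun p : W × W => (p.1 : F) + (p.2 : F) * t) := by
    refine ⟨fun p p' e => ?_, fun z => ?_⟩
    · have e' := congrArg σ e
      simp only [map_add, map_mul, show σ (p.1 : F) = p.1 from p.1.2, show σ (p.2 : F) = p.2 from p.2.2,
        show σ (p'.1 : F) = p'.1 from p'.1.2, show σ (p'.2 : F) = p'.2 from p'.2.2] at e'
      simp only at e
      have h2 : ((p.2 : F) - p'.2) * (t - σ t) = 0 := by linear_combination e - e'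
      have h3 : (p.2 : F) = p'.2 :=
        sub_eq_zero.mp ((mul_eq_zero.mp h2).resolve_right (sub_ne_zero.mpr ht.symm))
      exact Prod.ext (Subtype.ext (by rw [h3] at e; exact add_right_cancel e)) (Subtype.ext h3)
    · have hd : t - σ t ≠ 0 := sub_ne_zero.mpr ht.symm
      have hy : σ ((z - σ z) / (t - σ t)) = (z - σ z) / (t - σ t) := by
        rw [map_div₀, map_sub, map_sub, hσ, hσ, ← neg_sub z (σ z), ← neg_sub t (σ t), neg_div_neg_eq]
      refine ⟨⟨⟨z - (z - σ z) / (t - σ t) * t, ?_⟩, ⟨(z - σ z) / (t - σ t), hy⟩⟩, by simp⟩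
      show σ _ = _
      rw [map_sub, map_mul, hy]
      have := div_mul_cancel₀ (z - σ z) hd
      linear_combination this
  haveI : Finite K := Subtype.finite
  have h1 : Nat.card F = Nat.card K ^ (2 * Module.finrank K W) := by
    rw [← Nat.card_congr (Equiv.ofBijective _ hbij), Nat.card_prod, Module.natCard_eq_pow_finrank (K := K) (V := W),
      two_mul, pow_add]
  have h2 := Nat.pow_right_injective Finite.one_lt_card (hcard.symm.trans h1)
  exact Nat.not_even_iff_odd.mpr hro ⟨_, h2.trans (two_mul _)⟩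

variable [Fintype F] {n q : ℕ}

theorem glEquiv_mem_biIso (M : Matrix.GeneralLinearGroup (Fin n) F) :
    Forms.glEquiv (Fin n) F M ∈ Classical.biIsoGroup (Cfsg.hermForm n F q) ↔ M ∈ Cfsg.GU n F q :=
  Iff.rfl

theorem isMaximalIn_subfield_of_core (hF : Fintype.card F = q ^ 2) (hn : 4 ≤ n) (K : Subfield F) (r : ℕ)
    (hr : r.Prime) (hro : Odd r) (hcard : Nat.card F = Nat.card K ^ r) (P : GL (Fin n) F)
    (hP : ∀ u v : Fin n → K, Cfsg.hermForm n F q (ratVec K P u) (ratVec K P v) ∈ K)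
    (hcore : ∀ (D : UData (Forms.qPowHom hF) (Cfsg.hermForm n F q) K P)
      (M : Subgroup ((Fin n → F) ≃ₗ[F] (Fin n → F))), Over D M → ∀ g ∈ M,
      (¬ ∃ l : F, l ≠ 0 ∧ ∀ u : Fin n → K, ∃ v : Fin n → K, g (ratVec K P u) = l • ratVec K P v) →
      ∀ v : Fin n → F, Cfsg.hermForm n F q v v = 0 → ∀ d : F, d + Forms.qPowHom hF d = 0 →
        HasEich (Cfsg.hermForm n F q) M v 0 d) :
    Cfsg.Geo.IsMaximalIn (Cfsg.GU n F q ⊓ Cfsg.Geo.specialLinear (Fin n) F)
      (Cfsg.Geo.subfieldSubgroup K P ⊓ (Cfsg.GU n F q ⊓ Cfsg.Geo.specialLinear (Fin n) F)) := by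
  classical
  set σ := Forms.qPowHom hF with hσdef
  have hS := Classical.hermSpace_std hF n
  have D : UData σ (Cfsg.hermForm n F q) K P :=
    ⟨hS, fun a ha => by rw [hσdef, Forms.qPowHom_apply]; exact K.pow_mem ha q, hP,
      exists_moved hS.invol hS.nontriv K r hro hcard⟩
  set G := Cfsg.GU n F q ⊓ Cfsg.Geo.specialLinear (Fin n) F with hG
  set Φ := Forms.glEquiv (Fin n) F with hΦ
  have hdet : ∀ A : GL (Fin n) F, LinearEquiv.det (Φ A) = Matrix.GeneralLinearGroup.det A := fun A => by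
    apply Units.ext
    rw [LinearEquiv.coe_det, Matrix.GeneralLinearGroup.val_det_apply,
      show (Φ A).toLinearMap = Matrix.toLin' (A : Matrix (Fin n) (Fin n) F) from
        LinearMap.ext fun v => by rw [Matrix.toLin'_apply]; rfl,
      LinearMap.det_toLin']
  have hstab : ∀ A ∈ Cfsg.Geo.subfieldSubgroup K P,
      ∃ l : F, l ≠ 0 ∧ ∀ u : Fin n → K, ∃ v : Fin n → K, Φ A (ratVec K P u) = l • ratVec K P v :=
    fun A hA => exists_scale_of_mem hA
  refine ⟨lt_of_le_of_ne inf_le_right fun heq => ?_, fun M hHM hMG => ?_⟩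
  · obtain ⟨b, -, hb, hbS⟩ := D.exists_iso_perp_notMem (![] : Fin 0 → Fin n → K) ⊥ (by omega)
      (by rw [finrank_bot]; omega)
    obtain ⟨d, hd, hdK⟩ : ∃ d : F, d + σ d = 0 ∧ d ∉ K := by
      by_contra hall
      push Not at hall
      obtain ⟨o, ho, hne⟩ := D.nontrivK
      have hsk : ∀ z : F, z - σ z ∈ K := fun z => hall _ (by rw [map_sub, hS.invol]; ring)
      have htop : ∀ z : F, z ∈ K := fun z => by
        rw [show z = ((o * z - σ (o * z)) - σ o * (z - σ z)) / (o - σ o) by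
          rw [eq_div_iff (sub_ne_zero.mpr hne.symm), map_mul]; ring]
        exact K.div_mem (K.sub_mem (hsk _) (K.mul_mem (D.stab o ho) (hsk z))) (K.sub_mem ho (D.stab o ho))
      have e : Nat.card K = Nat.card F := Nat.card_congr (Equiv.subtypeUnivEquiv htop)
      rw [e] at hcard
      exact hr.one_lt.ne' (Nat.pow_right_injective (Finite.one_lt_card (α := F)) (hcard.symm.trans (pow_one _).symm))
    set g := Classical.uEich hS (ratVec K P b) 0 d (D.B_rat_zero hb) (hS.zero_left _)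
      (Classical.skew_fill hS hd) with hg
    obtain ⟨A, hA⟩ := Φ.surjective g
    have hAG : A ∈ G := by
      refine ⟨(glEquiv_mem_biIso A).mp ?_, ?_⟩
      · rw [← hΦ, hA]; exact Classical.uEich_mem _ _ _ _ _ _ _
      · show Matrix.GeneralLinearGroup.det A = 1
        rw [← hdet, hA]; exact Classical.uEich_det _ _ _ _ _ _ _
    refine D.not_stab_transvection hn hb (UData.ne_zero_of_notMem hbS) hdK (g := g) (fun x => ?_) (hA ▸ hstab A (heq.ge hAG).1)
    rw [hg, Classical.uEich_apply, smul_zero, add_zero, hS.zero_right, sub_zero]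
  by_cases hM : M ≤ Cfsg.Geo.subfieldSubgroup K P
  · exact Or.inl (le_antisymm (le_inf hM hMG) hHM)
  right
  obtain ⟨A, hAM, hA⟩ := SetLike.not_le_iff_exists.mp hM
  set M' := M.map Φ.toMonoidHom with hM'
  have hO : Over D M' := by
    refine ⟨?_, fun g hg hd hrat => ?_⟩
    · rintro _ ⟨B, hB, rfl⟩
      exact (glEquiv_mem_biIso B).mpr (hMG hB).1
    · obtain ⟨B, rfl⟩ := Φ.surjective g
      refine ⟨B, hHM ⟨mem_subfield_of_maps one_ne_zero fun u => ?_, (glEquiv_mem_biIso B).mp hg, ?_⟩, rfl⟩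
      · obtain ⟨v, hv⟩ := hrat u
        exact ⟨v, by rw [one_smul]; exact hv⟩
      · show Matrix.GeneralLinearGroup.det B = 1
        rw [← hdet]; exact hd
  have hgK : ¬ ∃ l : F, l ≠ 0 ∧ ∀ u : Fin n → K, ∃ v : Fin n → K, Φ A (ratVec K P u) = l • ratVec K P v := by
    rintro ⟨l, hl, h⟩
    exact hA (mem_subfield_of_maps hl h)
  have hT : ∀ v : Fin n → F, Cfsg.hermForm n F q v v = 0 → ∀ c : F, c + σ c = 0 →
      HasEich (Cfsg.hermForm n F q) M' v 0 c := fun v hv c hc =>
    hcore D M' hO _ (Subgroup.mem_map_of_mem _ hAM) hgK v hv c hc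
  refine le_antisymm hMG ?_
  obtain ⟨m, rfl⟩ : ∃ m, n = m + 2 := ⟨n - 2, by omega⟩
  let ψ : Cfsg.SU (m + 2) F q →* GL (Fin (m + 2)) F := Matrix.SpecialLinearGroup.toGL.comp (Subgroup.subtype _)
  have hle : Subgroup.closure {A : ↥(Cfsg.SU (m + 2) F q) | ∃ (v : Fin (m + 2) → F) (c : F),
      Cfsg.hermForm (m + 2) F q v v = 0 ∧
      ((A : Matrix.SpecialLinearGroup (Fin (m + 2)) F) : Matrix (Fin (m + 2)) (Fin (m + 2)) F)
        = Cfsg.unitaryTransvection (m + 2) q v c} ≤ M.comap ψ := by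
    rw [Subgroup.closure_le]
    rintro T ⟨v, c, hv, hT'⟩
    show ψ T ∈ M
    have hact : ∀ x, (ψ T : Matrix (Fin (m + 2)) (Fin (m + 2)) F) *ᵥ x
        = x + (c * Cfsg.hermForm (m + 2) F q x v) • v := fun x => by
      rw [← Forms.unitaryTransvection_mulVec, ← hT']; rfl
    by_cases hv0 : v = 0
    · rw [show ψ T = 1 from Units.ext (Matrix.ext_iff_mulVec.mpr fun x => by simp [hact, hv0])]
      exact M.one_mem
    have hc : c + σ c = 0 := by
      obtain ⟨p, hp⟩ : ∃ p, Cfsg.hermForm (m + 2) F q p v ≠ 0 := by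
        by_contra hne
        push Not at hne
        exact hv0 (hS.nondeg v fun x => by rw [← hS.symm, hne, map_zero])
      have h := T.2 p p
      change Cfsg.hermForm (m + 2) F q ((ψ T : Matrix (Fin (m + 2)) (Fin (m + 2)) F) *ᵥ p)
        ((ψ T : Matrix (Fin (m + 2)) (Fin (m + 2)) F) *ᵥ p) = _ at h
      simp only [hact, hS.add_left, hS.add_right, hS.smul_left, hS.smul_right, hv, map_mul,
        ← hσdef, hS.symm] at h
      have hp' : σ (Cfsg.hermForm (m + 2) F q p v) ≠ 0 := (map_ne_zero σ).mpr hp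
      have h' : (c + σ c) * (Cfsg.hermForm (m + 2) F q p v * σ (Cfsg.hermForm (m + 2) F q p v)) = 0 := by
        rw [← hS.symm p v] at h
        linear_combination h
      exact (mul_eq_zero.mp h').resolve_right (mul_ne_zero hp hp')
    obtain ⟨g, hg, eg⟩ := hT v hv c hc
    obtain ⟨B, hB, rfl⟩ := hg
    rw [show ψ T = B from Units.ext (Matrix.ext_iff_mulVec.mpr fun x => by
      rw [hact]
      refine ((eg x).trans ?_).symm
      rw [smul_zero, add_zero, hS.zero_right, sub_zero])]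
    exact hB
  rw [Classical.closure_transvections_SU hF m (by omega) (by omega)] at hle
  rintro B ⟨hB1, hB2⟩
  have hd : (B : Matrix (Fin (m + 2)) (Fin (m + 2)) F).det = 1 := congrArg Units.val hB2
  have := hle (Subgroup.mem_top (⟨⟨(B : Matrix (Fin (m + 2)) (Fin (m + 2)) F), hd⟩, hB1⟩ :
    Cfsg.SU (m + 2) F q))
  rwa [Subgroup.mem_comap, show ψ _ = B from Units.ext rfl] at this

theorem isMaximalIn_subfield (hF : Fintype.card F = q ^ 2) (hn : 6 ≤ n) (K : Subfield F) (r : ℕ) (hr : r.Prime)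
    (hro : Odd r) (hcard : Nat.card F = Nat.card K ^ r) (P : GL (Fin n) F)
    (hP : ∀ u v : Fin n → K, Cfsg.hermForm n F q (ratVec K P u) (ratVec K P v) ∈ K) :
    Cfsg.Geo.IsMaximalIn (Cfsg.GU n F q ⊓ Cfsg.Geo.specialLinear (Fin n) F)
      (Cfsg.Geo.subfieldSubgroup K P ⊓ (Cfsg.GU n F q ⊓ Cfsg.Geo.specialLinear (Fin n) F)) :=
  isMaximalIn_subfield_of_core hF (by omega) K r hr hro hcard P hP
    fun D _ hO _ hg hgK _ hv _ hd => D.transvection_mem_of_not_stab hO hn r hr hcard hg hgK hv hd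

end Cfsg.Agent.Lib.SUSubfield
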