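import Mathlib

/-!
A finite subgroup of `SL₂` with at least four upper unitriangular elements, not fixing the first line,
has an upper triangular element with non-trivial diagonal.
-/

set_option autoImplicit false

namespace Cfsg.Agent.Lib.SUSubfield

open Matrix

variable {E : Type*} [Field E]

/-- Matrices commuting with a non-scalar matrix commute with each other. -/
theorem commute_of_commute_nonscalar {g x y : Matrix (Fin 2) (Fin 2) E}
    (hg : ¬ (g 0 1 = 0 ∧ g 1 0 = 0 ∧ g 0 0 = g 1 1)) (hx : x * g = g * x) (hy : y * g = g * y) :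
    x * y = y * x := by
  have ex := fun i j => congrFun (congrFun hx i) j
  have ey := fun i j => congrFun (congrFun hy i) j
  have x00 := ex 0 0
  have x01 := ex 0 1
  have x10 := ex 1 0
  have y00 := ey 0 0
  have y01 := ey 0 1
  have y10 := ey 1 0
  simp only [mul_apply, Fin.sum_univ_two] at x00 x01 x10 y00 y01 y10
  have key : x 0 1 * y 1 0 = x 1 0 * y 0 1 ∧ x 0 1 * (y 0 0 - y 1 1) = y 0 1 * (x 0 0 - x 1 1) ∧
      x 1 0 * (y 0 0 - y 1 1) = y 1 0 * (x 0 0 - x 1 1) := by
    by_cases hb : g 0 1 = 0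
    · by_cases hc : g 1 0 = 0
      · have hd : g 0 0 - g 1 1 ≠ 0 := fun e => hg ⟨hb, hc, sub_eq_zero.mp e⟩
        refine ⟨?_, ?_, ?_⟩ <;> refine mul_left_cancel₀ hd ?_ <;> grind
      · refine ⟨?_, ?_, ?_⟩ <;> refine mul_left_cancel₀ hc ?_ <;> grind
    · refine ⟨?_, ?_, ?_⟩ <;> refine mul_left_cancel₀ hb ?_ <;> grind
  ext i j
  fin_cases i <;> fin_cases j <;> simp [mul_apply, Fin.sum_univ_two] <;> grind

/-- An element commuting with `g` with the same characteristic polynomial is `g` or `g⁻¹`, for `tr² ≠ 4`. -/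
theorem eq_or_eq_inv_of_commute {g y : Matrix.SpecialLinearGroup (Fin 2) E} (hc : y * g = g * y)
    (ht : (y : Matrix (Fin 2) (Fin 2) E).trace = (g : Matrix (Fin 2) (Fin 2) E).trace)
    (h4 : (g : Matrix (Fin 2) (Fin 2) E).trace ^ 2 ≠ 4) : y = g ∨ y = g⁻¹ := by
  have hgd := g.2
  have hyd := y.2
  rw [det_fin_two] at hgd hyd
  have e := fun i j => congrFun (congrFun (congrArg Subtype.val hc) i) j
  have e00 := e 0 0
  have e01 := e 0 1
  have e10 := e 1 0
  simp only [Matrix.SpecialLinearGroup.coe_mul, mul_apply, Fin.sum_univ_two] at e00 e01 e10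
  rw [trace_fin_two] at ht h4
  rw [trace_fin_two] at ht
  set A : Matrix (Fin 2) (Fin 2) E := (y : Matrix (Fin 2) (Fin 2) E) - (g : Matrix (Fin 2) (Fin 2) E) with hA
  set B : Matrix (Fin 2) (Fin 2) E := (y : Matrix (Fin 2) (Fin 2) E) - ((g⁻¹ : Matrix.SpecialLinearGroup (Fin 2) E)
    : Matrix (Fin 2) (Fin 2) E) with hB
  have hAB : A * B = 0 := by
    rw [hA, hB, Matrix.SpecialLinearGroup.coe_inv, adjugate_fin_two]
    ext i j
    fin_cases i <;> fin_cases j <;> simp [mul_apply, Fin.sum_univ_two] <;> grind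
  by_cases hA0 : A.det = 0
  · by_cases hB0 : B.det = 0
    · exfalso
      apply h4
      rw [hA, det_fin_two] at hA0
      rw [hB, Matrix.SpecialLinearGroup.coe_inv, adjugate_fin_two, det_fin_two] at hB0
      simp at hA0 hB0
      grind
    · left
      have : A = 0 := by
        have := congrArg (· * B⁻¹) hAB
        simp only [zero_mul, Matrix.mul_assoc, mul_nonsing_inv B (Ne.isUnit hB0), mul_one] at this
        exact this
      exact Subtype.ext (sub_eq_zero.mp this)
  · right
    have : B = 0 := by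
      have := congrArg (A⁻¹ * ·) hAB
      simp only [mul_zero, ← Matrix.mul_assoc, nonsing_inv_mul A (Ne.isUnit hA0), one_mul] at this
      exact this
    exact Subtype.ext (sub_eq_zero.mp this)

/-- Unipotent-type elements whose conjugation preserves a centraliser commute. -/
theorem commute_of_conj_commute {g h : Matrix.SpecialLinearGroup (Fin 2) E}
    (hg : (g : Matrix (Fin 2) (Fin 2) E).trace ^ 2 = 4) (hh : (h : Matrix (Fin 2) (Fin 2) E).trace ^ 2 = 4)
    (hns : ¬ ((g : Matrix (Fin 2) (Fin 2) E) 0 1 = 0 ∧ (g : Matrix (Fin 2) (Fin 2) E) 1 0 = 0 ∧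
      (g : Matrix (Fin 2) (Fin 2) E) 0 0 = (g : Matrix (Fin 2) (Fin 2) E) 1 1))
    (hc : h * g * h⁻¹ * g = g * (h * g * h⁻¹)) : h * g = g * h := by
  have hgd := g.2
  have hhd := h.2
  rw [det_fin_two] at hgd hhd
  obtain ⟨ε, hε, hεt⟩ : ∃ ε : E, ε * ε = 1 ∧ (g : Matrix (Fin 2) (Fin 2) E).trace = 2 * ε := by
    have : ((g : Matrix (Fin 2) (Fin 2) E).trace - 2) * ((g : Matrix (Fin 2) (Fin 2) E).trace + 2) = 0 := by
      linear_combination hg
    rcases mul_eq_zero.mp this with e | e
    · exact ⟨1, one_mul _, by linear_combination e⟩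
    · exact ⟨-1, by ring, by linear_combination e⟩
  obtain ⟨η, hη, hηt⟩ : ∃ η : E, η * η = 1 ∧ (h : Matrix (Fin 2) (Fin 2) E).trace = 2 * η := by
    have : ((h : Matrix (Fin 2) (Fin 2) E).trace - 2) * ((h : Matrix (Fin 2) (Fin 2) E).trace + 2) = 0 := by
      linear_combination hh
    rcases mul_eq_zero.mp this with e | e
    · exact ⟨1, one_mul _, by linear_combination e⟩
    · exact ⟨-1, by ring, by linear_combination e⟩
  rw [trace_fin_two] at hεt hηt
  set a := (g : Matrix (Fin 2) (Fin 2) E) 0 0 - ε with ha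
  set b := (g : Matrix (Fin 2) (Fin 2) E) 0 1 with hb
  set c := (g : Matrix (Fin 2) (Fin 2) E) 1 0 with hc0
  set a' := (h : Matrix (Fin 2) (Fin 2) E) 0 0 - η with ha'
  set b' := (h : Matrix (Fin 2) (Fin 2) E) 0 1 with hb'
  set c' := (h : Matrix (Fin 2) (Fin 2) E) 1 0 with hc'
  have g00 : (g : Matrix (Fin 2) (Fin 2) E) 0 0 = ε + a := by rw [ha]; ring
  have g11 : (g : Matrix (Fin 2) (Fin 2) E) 1 1 = ε - a := by linear_combination hεt - g00
  have h00 : (h : Matrix (Fin 2) (Fin 2) E) 0 0 = η + a' := by rw [ha']; ring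
  have h11 : (h : Matrix (Fin 2) (Fin 2) E) 1 1 = η - a' := by linear_combination hηt - h00
  rw [g00, g11] at hgd hns
  clear_value a b c a' b' c'
  rw [h00, h11] at hhd
  have hN : a * a + b * c = 0 := by linear_combination hε - hgd
  have hM : a' * a' + b' * c' = 0 := by linear_combination hη - hhd
  -- the conjugate of the nilpotent part is a multiple of it
  have e := fun i j => congrFun (congrFun (congrArg Subtype.val hc) i) j
  have e00 := e 0 0
  have e01 := e 0 1
  have e10 := e 1 0
  simp only [Matrix.SpecialLinearGroup.coe_mul, Matrix.SpecialLinearGroup.coe_inv, adjugate_fin_two,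
    mul_apply, Fin.sum_univ_two, of_apply, cons_val', cons_val_zero, cons_val_one, cons_val_fin_one,
    g00, g11, h00, h11, ← hb, ← hc0, ← hb', ← hc'] at e00 e01 e10
  have htr : 2 * a * a' + b * c' + c * b' = 0 := by
    by_cases hb0 : b = 0
    · by_cases hc00 : c = 0
      · exact absurd ⟨hb0, hc00, by have : a = 0 := by simpa [hb0] using hN
                                    rw [this]; ring⟩ hns
      · have ha0 : a = 0 := by simpa [hb0] using hN
        subst ha0
        rw [hb0] at e00 ⊢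
        have : c * b' = 0 := by grind
        linear_combination this
    · have : (2 * a * a' + b * c' + c * b') ^ 2 = 0 := by grind
      exact pow_eq_zero_iff two_ne_zero |>.mp this
  have k1 : a * b' = b * a' := by
    have : (a * b' - b * a') ^ 2 = 0 := by linear_combination b' ^ 2 * hN + b ^ 2 * hM - b * b' * htr
    exact sub_eq_zero.mp (pow_eq_zero_iff two_ne_zero |>.mp this)
  have k2 : a * c' = c * a' := by
    have : (a * c' - c * a') ^ 2 = 0 := by linear_combination c' ^ 2 * hN + c ^ 2 * hM - c * c' * htr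
    exact sub_eq_zero.mp (pow_eq_zero_iff two_ne_zero |>.mp this)
  have k3 : b * c' = c * b' := by
    have : (b * c' - c * b') ^ 2 = 0 := by
      linear_combination (b * c' + c * b' - 2 * a * a') * htr - 4 * (b' * c') * hN + 4 * a ^ 2 * hM
    exact sub_eq_zero.mp (pow_eq_zero_iff two_ne_zero |>.mp this)
  apply Subtype.ext
  rw [Matrix.SpecialLinearGroup.coe_mul, Matrix.SpecialLinearGroup.coe_mul]
  ext i j
  fin_cases i <;> fin_cases j <;>
    simp [mul_apply, Fin.sum_univ_two, g00, g11, h00, h11, ← hb, ← hc0, ← hb', ← hc']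
  · linear_combination -k3
  · linear_combination -2 * k1
  · linear_combination 2 * k2
  · linear_combination k3

section Count

variable {H : Type*} [Group H] [Fintype H] [DecidableEq H]

/-- The non-trivial elements conjugate into `S`. -/
def conjInto (S : Finset H) : Finset H :=
  Finset.univ.filter fun x => x ≠ 1 ∧ ∃ h : H, h * x * h⁻¹ ∈ S

theorem le_card_conjInto (S : Finset H) (N : Finset H)
    (hN : ∀ h x, x ∈ S → x ≠ 1 → h * x * h⁻¹ ∈ S → h ∈ N) :
    Fintype.card H * (S.erase 1).card ≤ N.card * (conjInto S).card := by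
  have h := Finset.card_le_mul_card_image_of_maps_to (s := (Finset.univ : Finset H) ×ˢ S.erase 1)
    (t := conjInto S) (f := fun p => p.1 * p.2 * p.1⁻¹) ?_ N.card ?_
  · simpa [Finset.card_product] using h
  · rintro ⟨k, x⟩ hx
    simp only [Finset.mem_product, Finset.mem_erase] at hx
    simp only [conjInto, Finset.mem_filter, Finset.mem_univ, true_and]
    exact ⟨by simpa [mul_inv_eq_one, mul_eq_left] using hx.2.1, k⁻¹, by simpa [mul_assoc] using hx.2.2⟩
  · intro y hy
    rcases Finset.eq_empty_or_nonempty ((Finset.univ ×ˢ S.erase 1).filter fun p => p.1 * p.2 * p.1⁻¹ = y)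
      with e | ⟨p₀, hp₀⟩
    · simp [e]
    simp only [Finset.mem_filter, Finset.mem_product, Finset.mem_erase] at hp₀
    refine Finset.card_le_card_of_injOn (fun p => p₀.1⁻¹ * p.1) ?_ ?_
    · intro p hp
      simp only [Finset.coe_filter, Set.mem_setOf_eq, Finset.mem_product, Finset.mem_erase] at hp
      refine hN _ p.2 hp.1.2.2 hp.1.2.1 ?_
      have e : p₀.1⁻¹ * p.1 * p.2 * (p₀.1⁻¹ * p.1)⁻¹ = p₀.2 := by
        rw [show p₀.1⁻¹ * p.1 * p.2 * (p₀.1⁻¹ * p.1)⁻¹ = p₀.1⁻¹ * (p.1 * p.2 * p.1⁻¹) * p₀.1 by group, hp.2,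
          ← hp₀.2]
        group
      rw [e]
      exact hp₀.1.2.2
    · intro p hp p' hp' e
      simp only [Finset.coe_filter, Set.mem_setOf_eq] at hp hp'
      have e1 : p.1 = p'.1 := mul_left_cancel e
      refine Prod.ext e1 ?_
      have e2 := hp.2.trans hp'.2.symm
      rw [e1] at e2
      exact mul_left_cancel (mul_right_cancel e2)

theorem card_conjInto_le (Q : Subgroup H) [DecidablePred (· ∈ Q)] :
    (Finset.univ.filter (· ∈ Q)).card * (conjInto (Finset.univ.filter (· ∈ Q))).card
      ≤ Fintype.card H * ((Finset.univ.filter (· ∈ Q)).erase 1).card := by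
  classical
  set S : Finset H := Finset.univ.filter (· ∈ Q) with hS
  have hmem : ∀ x, x ∈ S ↔ x ∈ Q := fun x => by simp [hS]
  have h := Finset.mul_card_image_le_card (s := (Finset.univ : Finset H) ×ˢ S.erase 1)
    (f := fun p => p.1 * p.2 * p.1⁻¹) S.card ?_
  · refine le_trans (Nat.mul_le_mul_left _ (Finset.card_le_card ?_)) (h.trans (by simp [Finset.card_product]))
    intro y hy
    simp only [conjInto, Finset.mem_filter, Finset.mem_univ, true_and] at hy
    obtain ⟨hy1, k, hk⟩ := hy
    refine Finset.mem_image.mpr ⟨(k⁻¹, k * y * k⁻¹), ?_, by group⟩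
    simp only [Finset.mem_product, Finset.mem_univ, Finset.mem_erase, true_and]
    exact ⟨by simpa [mul_inv_eq_one, mul_eq_left] using hy1, hk⟩
  · intro y hy
    obtain ⟨⟨k, x⟩, hkx, rfl⟩ := Finset.mem_image.mp hy
    simp only [Finset.mem_product, Finset.mem_univ, Finset.mem_erase, true_and] at hkx
    refine Finset.card_le_card_of_injOn (fun u => (k * u, u⁻¹ * x * u)) ?_ ?_
    · intro u hu
      simp only [Finset.coe_filter, Set.mem_setOf_eq, Finset.mem_product, Finset.mem_univ, Finset.mem_erase,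
        true_and, hmem] at hu hkx ⊢
      rw [Finset.mem_coe, hmem] at hu
      refine ⟨⟨fun e => hkx.1 ?_, Q.mul_mem (Q.mul_mem (Q.inv_mem hu) hkx.2) hu⟩, by group⟩
      calc x = u * (u⁻¹ * x * u) * u⁻¹ := by group
        _ = 1 := by rw [e]; group
    · intro u _ u' _ e
      exact mul_left_cancel (congrArg Prod.fst e)

end Count

/-- A finite subgroup of `SL₂` with four unitriangular elements and moving the first line has a triangular
element with non-trivial diagonal. -/
theorem exists_torus_elem (G : Subgroup (Matrix.SpecialLinearGroup (Fin 2) E)) [Finite G]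
    (h4 : ∃ f : Fin 4 → G, Function.Injective f ∧ ∀ i,
      ((f i).1 : Matrix (Fin 2) (Fin 2) E) 1 0 = 0 ∧ ((f i).1 : Matrix (Fin 2) (Fin 2) E) 0 0 = 1)
    (hmove : ∃ g ∈ G, (g : Matrix (Fin 2) (Fin 2) E) 1 0 ≠ 0) :
    ∃ g ∈ G, (g : Matrix (Fin 2) (Fin 2) E) 1 0 = 0 ∧ (g : Matrix (Fin 2) (Fin 2) E) 0 0 ≠ 1 := by
  classical
  by_contra hno
  push Not at hno
  haveI := Fintype.ofFinite G
  let m : G → Matrix (Fin 2) (Fin 2) E := fun x => (x.1 : Matrix (Fin 2) (Fin 2) E)
  have hm : ∀ x y : G, m (x * y) = m x * m y := fun x y => rfl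
  have hinj : Function.Injective m := fun x y e => Subtype.ext (Subtype.ext e)
  have h00 : ∀ x : G, m x 1 0 = 0 → m x 0 0 = 1 ∧ m x 1 1 = 1 := fun x hx => by
    have h1 := hno x.1 x.2 hx
    have h2 : (m x).det = 1 := x.1.2
    have h1' : m x 0 0 = 1 := h1
    rw [det_fin_two, hx, h1'] at h2
    exact ⟨h1', by simpa using h2⟩
  have hns : ∀ x : G, x ≠ 1 → ¬ (m x 0 1 = 0 ∧ m x 1 0 = 0 ∧ m x 0 0 = m x 1 1) := by
    rintro x hx ⟨e1, e2, e3⟩
    obtain ⟨f1, f2⟩ := h00 x e2
    refine hx (hinj ?_)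
    ext i j
    fin_cases i <;> fin_cases j <;> simp [m, e1, e2, f1, f2] <;>
      first | exact e1 | exact e2 | exact f1 | exact f2
  let Q : Subgroup G :=
    { carrier := {x | m x 1 0 = 0}
      mul_mem' := fun {a b} ha hb => by
        simp only [Set.mem_setOf_eq, hm, mul_apply, Fin.sum_univ_two] at ha hb ⊢
        rw [ha, hb]; ring
      one_mem' := by simp [m]
      inv_mem' := fun {a} ha => by
        simp only [Set.mem_setOf_eq, m] at ha ⊢
        simp [adjugate_fin_two, ha] }
  have hQc : ∀ u : G, u ∈ Q → u ≠ 1 → m u 0 1 ≠ 0 := fun u hu hu1 e => by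
    obtain ⟨f1, f2⟩ := h00 u hu
    exact hns u hu1 ⟨e, hu, by rw [f1, f2]⟩
  -- an element conjugating a non-trivial element of `Q` into `Q` lies in `Q`
  have hTI : ∀ k u : G, u ∈ Q → u ≠ 1 → k * u * k⁻¹ ∈ Q → k ∈ Q := by
    intro k u hu hu1 hk
    have hb := hQc u hu hu1
    obtain ⟨f1, f2⟩ := h00 u hu
    obtain ⟨v, hv, hkv⟩ : ∃ v ∈ Q, k * u = v * k := ⟨_, hk, by group⟩
    obtain ⟨v1, v2⟩ := h00 v hv
    have e := congrFun (congrFun (congrArg m hkv) 1) 1
    simp only [hm, mul_apply, Fin.sum_univ_two, f2, v2, show m v 1 0 = 0 from hv] at e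
    show m k 1 0 = 0
    have : m k 1 0 * m u 0 1 = 0 := by linear_combination e
    exact (mul_eq_zero.mp this).resolve_right hb
  set S : Finset G := Finset.univ.filter (· ∈ Q) with hS
  have hmemS : ∀ x, x ∈ S ↔ x ∈ Q := fun x => by simp [hS]
  have hq4 : 4 ≤ S.card := by
    obtain ⟨f, hf, hfi⟩ := h4
    have h := Finset.card_le_card_of_injOn f (s := Finset.univ) (t := S)
      (fun i _ => by rw [Finset.mem_coe, hmemS]; exact (hfi i).1) hf.injOn
    simpa using h
  have hge := le_card_conjInto S S (fun k x hx hx1 hk => by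
    rw [hmemS] at hx hk ⊢
    exact hTI k x hx hx1 hk)
  have hle := card_conjInto_le Q
  rw [← hS] at hle
  rw [Finset.card_erase_of_mem ((hmemS 1).mpr Q.one_mem)] at hge hle
  -- some element is not conjugate into `Q`
  obtain ⟨g₀, hg₀⟩ : ∃ g : G, g ≠ 1 ∧ g ∉ conjInto S := by
    by_contra hall
    push Not at hall
    have e : conjInto S = Finset.univ.erase 1 := by
      ext x
      refine ⟨fun hx => ?_, fun hx => hall x (Finset.ne_of_mem_erase hx)⟩
      simp only [conjInto, Finset.mem_filter] at hx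
      exact Finset.mem_erase.mpr ⟨hx.2.1, Finset.mem_univ _⟩
    rw [e, Finset.card_erase_of_mem (Finset.mem_univ _), Finset.card_univ] at hle
    obtain ⟨k, hkG, hk⟩ := hmove
    have hlt : S.card < Fintype.card G := by
      rw [← Finset.card_univ]
      refine Finset.card_lt_card (Finset.ssubset_univ_iff.mpr fun e => hk ?_)
      exact (hmemS ⟨k, hkG⟩).mp (by rw [e]; exact Finset.mem_univ _)
    have h1 : 1 ≤ Fintype.card G := by omega
    have h2 : 1 ≤ S.card := by omega
    zify [h1, h2] at hle hlt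
    nlinarith
  -- prefer one with trace not `±2`
  obtain ⟨g, hg1, hgQ, hsel⟩ : ∃ g : G, g ≠ 1 ∧ g ∉ conjInto S ∧
      ((m g).trace ^ 2 ≠ 4 ∨ ∀ x : G, (m x).trace ^ 2 = 4) := by
    by_cases hall : ∃ g : G, g ≠ 1 ∧ g ∉ conjInto S ∧ (m g).trace ^ 2 ≠ 4
    · obtain ⟨g, a, b, c⟩ := hall
      exact ⟨g, a, b, Or.inl c⟩
    · push Not at hall
      refine ⟨g₀, hg₀.1, hg₀.2, Or.inr fun x => ?_⟩
      by_cases hx1 : x = 1
      · subst hx1; simp [m, trace_fin_two]; norm_num
      by_cases hx : x ∈ conjInto S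
      · simp only [conjInto, Finset.mem_filter, hmemS] at hx
        obtain ⟨-, -, k, hk⟩ := hx
        obtain ⟨f1, f2⟩ := h00 _ hk
        have e : (m (k * x * k⁻¹)).trace = (m x).trace := by
          rw [hm, hm, Matrix.trace_mul_cycle, ← hm, inv_mul_cancel]
          simp [m]
        rw [← e, trace_fin_two, f1, f2]; norm_num
      · exact hall x hx1 hx
  set A : Finset G := Finset.univ.filter (fun x => x * g = g * x) with hA
  have hmemA : ∀ x, x ∈ A ↔ x * g = g * x := fun x => by simp [hA]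
  have hcomm : ∀ x y z : G, z ≠ 1 → x * z = z * x → y * z = z * y → x * y = y * x := fun x y z hz hx hy =>
    hinj (by
      rw [hm, hm]
      exact commute_of_commute_nonscalar (hns z hz) (by rw [← hm, hx, hm]) (by rw [← hm, hy, hm]))
  -- the conjugators inside the centraliser
  set N : Finset G := Finset.univ.filter
    (fun k => k * g * k⁻¹ * g = g * (k * g * k⁻¹)) with hN
  have hAN : ∀ k x, x ∈ A → x ≠ 1 → k * x * k⁻¹ ∈ A → k ∈ N := by
    intro k x hx hx1 hk
    rw [hmemA] at hx hk
    simp only [hN, Finset.mem_filter, Finset.mem_univ, true_and]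
    refine hcomm _ _ (k * x * k⁻¹) (by simpa [mul_inv_eq_one, mul_eq_left] using hx1) ?_ hk.symm
    calc k * g * k⁻¹ * (k * x * k⁻¹) = k * (g * x) * k⁻¹ := by group
      _ = k * (x * g) * k⁻¹ := by rw [hx]
      _ = k * x * k⁻¹ * (k * g * k⁻¹) := by group
  have hNA : N.card ≤ 2 * A.card := by
    rcases hsel with hne | hall
    · by_cases hex : ∃ k₀ : G, k₀ * g * k₀⁻¹ = g⁻¹
      · obtain ⟨k₀, hk₀⟩ := hex
        have hsub : N ⊆ A ∪ A.image (k₀ * ·) := by
          intro k hk
          simp only [hN, Finset.mem_filter, Finset.mem_univ, true_and] at hk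
          have htr : (m (k * g * k⁻¹)).trace = (m g).trace := by
            rw [hm, hm, Matrix.trace_mul_cycle, ← hm, inv_mul_cancel]; simp [m]
          rcases eq_or_eq_inv_of_commute (congrArg Subtype.val hk) htr hne with e | e
          · refine Finset.mem_union_left _ ((hmemA k).mpr ?_)
            have e' : k * g * k⁻¹ = g := Subtype.ext e
            exact mul_inv_eq_iff_eq_mul.mp e'
          · refine Finset.mem_union_right _ (Finset.mem_image.mpr ⟨k₀⁻¹ * k, (hmemA _).mpr ?_, by group⟩)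
            have e' : k * g * k⁻¹ = k₀ * g * k₀⁻¹ := (Subtype.ext e : k * g * k⁻¹ = g⁻¹).trans hk₀.symm
            calc k₀⁻¹ * k * g = k₀⁻¹ * (k * g * k⁻¹) * k := by group
              _ = g * (k₀⁻¹ * k) := by rw [e']; group
        refine (Finset.card_le_card hsub).trans ((Finset.card_union_le _ _).trans ?_)
        have := Finset.card_image_le (s := A) (f := (k₀ * ·))
        omega
      · refine (Finset.card_le_card (t := A) fun k hk => ?_).trans (by omega)
        simp only [hN, Finset.mem_filter, Finset.mem_univ, true_and] at hk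
        have htr : (m (k * g * k⁻¹)).trace = (m g).trace := by
          rw [hm, hm, Matrix.trace_mul_cycle, ← hm, inv_mul_cancel]; simp [m]
        rcases eq_or_eq_inv_of_commute (congrArg Subtype.val hk) htr hne with e | e
        · exact (hmemA k).mpr (mul_inv_eq_iff_eq_mul.mp (Subtype.ext e))
        · exact absurd ⟨k, Subtype.ext e⟩ hex
    · refine (Finset.card_le_card (t := A) fun k hk => ?_).trans (by omega)
      simp only [hN, Finset.mem_filter, Finset.mem_univ, true_and] at hk
      exact (hmemA k).mpr (Subtype.ext (commute_of_conj_commute (hall g) (hall k) (hns g hg1)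
        (congrArg Subtype.val hk)))
  have hgeA := le_card_conjInto A N hAN
  have h1A : (1 : G) ∈ A := (hmemA 1).mpr (by simp)
  have ha2 : 2 ≤ A.card := Finset.one_lt_card.mpr ⟨1, h1A, g, (hmemA g).mpr rfl, hg1.symm⟩
  rw [Finset.card_erase_of_mem h1A] at hgeA
  -- the two unions are disjoint
  have hdisj : Disjoint (conjInto S) (conjInto A) := by
    rw [Finset.disjoint_left]
    intro y hyS hyA
    simp only [conjInto, Finset.mem_filter, Finset.mem_univ, true_and, hmemS, hmemA] at hyS hyA
    obtain ⟨hy1, k, hk⟩ := hyS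
    obtain ⟨-, l, hl⟩ := hyA
    apply hgQ
    simp only [conjInto, Finset.mem_filter, Finset.mem_univ, true_and, hmemS]
    refine ⟨hg1, k * l⁻¹, hTI _ (k * y * k⁻¹) hk (by simpa [mul_inv_eq_one, mul_eq_left] using hy1) ?_⟩
    have e : k * l⁻¹ * g * (k * l⁻¹)⁻¹ * (k * y * k⁻¹) * (k * l⁻¹ * g * (k * l⁻¹)⁻¹)⁻¹ = k * y * k⁻¹ :=
      calc _ = k * l⁻¹ * (g * (l * y * l⁻¹) * g⁻¹) * (k * l⁻¹)⁻¹ := by group
        _ = k * y * k⁻¹ := by rw [← hl]; group
    rwa [e]
  have htot : (conjInto S).card + (conjInto A).card + 1 ≤ Fintype.card G := by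
    rw [← Finset.card_union_of_disjoint hdisj, ← Finset.card_univ]
    refine Finset.card_lt_card (Finset.ssubset_univ_iff.mpr fun e => ?_)
    have h1 : (1 : G) ∈ conjInto S ∪ conjInto A := e ▸ Finset.mem_univ _
    simp [conjInto] at h1
  obtain ⟨s, hs⟩ : ∃ s, S.card = s + 4 := ⟨S.card - 4, by omega⟩
  obtain ⟨a, ha⟩ : ∃ a, A.card = a + 2 := ⟨A.card - 2, by omega⟩
  rw [hs, show s + 4 - 1 = s + 3 by omega] at hge
  rw [ha, show a + 2 - 1 = a + 1 by omega] at hgeA
  rw [ha] at hNA
  have hA' : Fintype.card G * (a + 1) ≤ 2 * (a + 2) * (conjInto A).card :=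
    hgeA.trans (Nat.mul_le_mul_right _ hNA)
  have k1 : 3 * Fintype.card G ≤ 4 * (conjInto S).card :=
    Nat.le_of_mul_le_mul_left (c := s + 4) (by nlinarith) (by omega)
  have k2 : Fintype.card G ≤ 4 * (conjInto A).card :=
    Nat.le_of_mul_le_mul_left (c := a + 2) (by nlinarith) (by omega)
  omega

end Cfsg.Agent.Lib.SUSubfield
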