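import Cfsg.Agent.Lib.SUSubfield.Tools

/-!
A non-rational centre orthogonal to a rational isotropic vector gives a new scalar.
-/

set_option autoImplicit false

namespace Cfsg.Agent.Lib.SUSubfield

open Matrix Cfsg.Agent.Lib Cfsg.Agent.Lib.SubfieldMax

variable {F : Type*} [Field F] [Finite F] {n : ℕ} {σ : F →+* F} {B : (Fin n → F) → (Fin n → F) → F}
  {K : Subfield F} {P : GL (Fin n) F} {M : Subgroup ((Fin n → F) ≃ₗ[F] (Fin n → F))}

local notation "Vs" => (Fin n → F)
local notation "Ks" => (Fin n → K)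
local notation "ρR" => ratVec K P

namespace UData

variable (D : UData σ B K P)
include D

theorem good_of_products (hO : Over D M) (hn : 6 ≤ n) {w : Vs} (hw : Centre σ B K M w) {t : Ks}
    (ht : D.rB t t = 0) (ht0 : t ≠ 0) (htw : B (ρR t) w = 0) {s s' : Ks} (hss : D.rB s s = 0)
    (hs'' : D.rB s' s' = 0) (hst : D.rB s t = 0) (hs't : D.rB s' t = 0)
    (hprod : B (ρR s) w * σ (B (ρR s') w) ∉ K) : ∃ c, c ∉ K ∧ Good D M c := by
  obtain ⟨a, ha0, ha⟩ := D.rherm.exists_skew
  have ha' : (a : F) + σ a = 0 := congrArg Subtype.val ha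
  have hli : LinearIndependent K ![t, s'] := indep_two ht0 fun h => by
    obtain ⟨k, rfl⟩ := Submodule.mem_span_singleton.mp h
    apply hprod
    rw [ratVec_smul, D.herm.smul_left, htw, mul_zero, map_zero, mul_zero]
    exact K.zero_mem
  obtain ⟨t', ht', ht's', ht't⟩ := D.exists_partner_perp hli hs'' hs't
  have hspan : Module.finrank K (Submodule.span K ({t, t'} : Set Ks)) ≤ 2 := by
    have h := finrank_range_le_card (R := K) (![t, t'] : Fin 2 → Ks)
    simp only [Matrix.range_cons, Matrix.range_empty, Set.union_empty, ← Set.insert_eq, Fintype.card_fin] at h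
    exact h
  obtain ⟨b', hb', hbb, hbS⟩ := D.exists_iso_perp_notMem_rad ![t, t', s'] (Submodule.span K {t, t'}) (R := 1)
    (by
      have e : Set.range (![t, t', s'] : Fin 3 → Ks) = Set.range (![t, s', t'] : Fin 3 → Ks) := by
        simp only [Matrix.range_cons, Matrix.range_empty, Set.union_empty]
        rw [Set.union_comm {t'} {s'}]
      rw [e]
      exact D.finrank_rad_triple hs'' (D.rB_symm_zero hs't) (D.rB_symm_zero ht't) ht ht's') (by omega) (by omega)
  have hbt : D.rB b' t = 0 := hb' 0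
  have hbt' : D.rB b' t' = 0 := hb' 1
  have hbs : D.rB b' s' = 0 := hb' 2
  have hli2 : LinearIndependent K ![t, b'] :=
    indep_two ht0 fun h => hbS (Submodule.span_mono (by simp) h)
  have hwt : B w (ρR t) = 0 := by rw [← D.herm.symm, htw, map_zero]
  have htt : B (ρR t) (ρR t) = 0 := D.B_rat_zero ht
  have hs't' : B (ρR s') (ρR t) = 0 := D.B_rat_zero hs't
  set lam := B (ρR s) w with hlam
  set lam' := B (ρR s') w with hlam'
  -- first element
  obtain ⟨e, he, ee⟩ := D.hasEich_rat hO (u := t) (w := s) (c := 0) ht hst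
    (by rw [map_zero, hss, add_zero, add_zero])
  have ew : e w = w + (-σ lam) • ρR t := by
    rw [ee, hwt, hlam, D.herm.symm]
    push_cast
    simp
  have hwa := hw.2 a a.2 ha'
  have hwa' := hw.2 (-(a : F)) (K.neg_mem a.2) (by rw [map_neg]; linear_combination -ha')
  obtain ⟨gA, hgA, eA⟩ := hasEich_conj D.herm hO.iso he hwa
  obtain ⟨gB, hgB, eB⟩ := hwa'
  set η := (a : F) * (-σ lam) * lam' with hη
  have eX : (gA * gB) (ρR s') = ρR s' + η • ρR t := by
    rw [LinearEquiv.mul_apply, eB, eA, ew]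
    simp only [map_zero, D.herm.zero_right, D.herm.add_left, D.herm.add_right, D.herm.smul_left, D.herm.smul_right,
      hw.1, hwt, hs't', ← hlam', smul_zero, add_zero, sub_zero, hη]
    match_scalars <;> ring
  have hX : gA * gB ∈ M := M.mul_mem hgA hgB
  have hcs := D.centre_rat hO hs''
  have hsa' := hcs.2 (-(a : F)) (K.neg_mem a.2) (by rw [map_neg]; linear_combination -ha')
  obtain ⟨gC, hgC, eC⟩ := (D.centre_map hO hX hcs).2 a a.2 ha'
  obtain ⟨gD, hgD, eD⟩ := hsa'
  have hY : gC * gD ∈ M := M.mul_mem hgC hgD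
  have hs's' : B (ρR s') (ρR s') = 0 := D.B_rat_zero hs''
  have et' : (gC * gD) (ρR t') = ρR t' + ((a : F) * η) • ρR t := by
    rw [LinearEquiv.mul_apply, eD, eC, eX]
    simp only [D.herm.zero_right, D.herm.add_left, D.herm.add_right, D.herm.smul_left, D.herm.smul_right,
      hs's', hs't', D.B_rat_one ht's', D.B_rat_zero ht't, smul_zero, add_zero, sub_zero]
    match_scalars <;> ring
  have eb' : (gC * gD) (ρR b') = ρR b' := by
    rw [LinearEquiv.mul_apply, eD, eC, eX]
    simp only [D.herm.zero_right, D.herm.add_left, D.herm.add_right, D.herm.smul_left, D.herm.smul_right,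
      hs's', hs't', D.B_rat_zero hbs, D.B_rat_zero hbt, smul_zero, add_zero, sub_zero]
    match_scalars <;> ring
  have h0 := D.hasEich_rat_root hO ht' hbb (D.rB_symm_zero hbt') 1
  have h1 := hasEich_conj D.herm hO.iso hY h0
  rw [map_smul, et', eb'] at h1
  have h2 := hasEich_swap D.herm h1
  have h3 := hasEich_swap D.herm h0
  have z0 : B (ρR b') (ρR b') = 0 := D.B_rat_zero hbb
  have z1 : B (ρR t') (ρR b') = 0 := D.B_rat_zero (D.rB_symm_zero hbt')
  have z2 : B (ρR t) (ρR b') = 0 := D.B_rat_zero (D.rB_symm_zero hbt)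
  have w0 : B (ρR t') (ρR t') = 0 := D.B_rat_zero ht'
  have w1 : B (ρR t) (ρR t') = 0 := D.B_rat_zero (D.rB_symm_zero ht't)
  have h4 := hasEich_inv D.herm z0 (by rw [D.herm.smul_left, z1, mul_zero])
    (by rw [map_zero, D.herm.smul_left, D.herm.smul_right, w0]; ring) h3
  have h5 := hasEich_mul D.herm z0
    (by rw [D.herm.neg_left, D.herm.smul_left, z1, mul_zero, neg_zero])
    (by rw [D.herm.smul_left, D.herm.add_left, D.herm.smul_left, z1, z2]; ring) h4 h2
  have h6 : HasEich B M (ρR b') ((-((a : F) * η)) • ρR t) 0 := by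
    refine hasEich_congr ?_ ?_ h5
    · push_cast
      rw [map_one]
      module
    · simp only [map_zero, D.herm.neg_right, D.herm.smul_left, D.herm.smul_right, D.herm.add_left, w0, w1]
      ring
  have h7 := hasEich_swap D.herm h6
  rw [map_neg, neg_neg] at h7
  refine ⟨_, fun hmem => hprod ?_, D.good_of_pair hO (by omega) hli2 ht hbb (D.rB_symm_zero hbt) h7⟩
  have haF : (a : F) ≠ 0 := fun e => ha0 (Subtype.ext e)
  have e1 : lam * σ lam' = σ ((a : F) * η) / (-((a : F) * a)) := by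
    rw [eq_div_iff (neg_ne_zero.mpr (mul_ne_zero haF haF)), hη]
    simp only [map_mul, map_neg, D.herm.invol, show σ (a : F) = -(a : F) by linear_combination ha']
    ring
  rw [e1]
  exact K.div_mem hmem (K.neg_mem (K.mul_mem a.2 a.2))

theorem exists_good_notMem (hO : Over D M) (hn : 6 ≤ n) {w : Vs} (hw : Centre σ B K M w)
    (hirr : ¬ IsRatLine K P w) {t : Ks} (ht : D.rB t t = 0) (ht0 : t ≠ 0) (htw : B (ρR t) w = 0) :
    ∃ c, c ∉ K ∧ Good D M c := by
  by_contra hno
  have claim : ∀ t : Ks, D.rB t t = 0 → t ≠ 0 → B (ρR t) w = 0 →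
      ∃ μ : F, ∀ u, D.rB u t = 0 → ∃ k : K, B (ρR u) w = k * μ := by
    intro t ht ht0 htw
    have hK : ∀ s s' : Ks, D.rB s s = 0 → D.rB s' s' = 0 → D.rB s t = 0 → D.rB s' t = 0 →
        B (ρR s) w * σ (B (ρR s') w) ∈ K := fun s s' h1 h2 h3 h4 => by
      by_contra h
      exact hno (D.good_of_products hO hn hw ht ht0 htw h1 h2 h3 h4 h)
    obtain ⟨μ, hμ⟩ : ∃ μ : F, ∀ s, D.rB s s = 0 → D.rB s t = 0 → ∃ k : K, B (ρR s) w = k * μ := by
      by_cases hall : ∀ s, D.rB s s = 0 → D.rB s t = 0 → B (ρR s) w = 0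
      · exact ⟨0, fun s h1 h2 => ⟨0, by rw [hall s h1 h2, mul_zero]⟩⟩
      push Not at hall
      obtain ⟨s₀, h1, h2, hne⟩ := hall
      refine ⟨B (ρR s₀) w, fun s g1 g2 => ⟨⟨_, K.div_mem (hK s s₀ g1 h1 g2 h2) (hK s₀ s₀ h1 h1 h2 h2)⟩, ?_⟩⟩
      have : σ (B (ρR s₀) w) ≠ 0 := (map_ne_zero σ).mpr hne
      show _ = B (ρR s) w * σ (B (ρR s₀) w) / (B (ρR s₀) w * σ (B (ρR s₀) w)) * B (ρR s₀) w
      field_simp
    let S : Submodule K Ks :=
      { carrier := {u | ∃ k : K, B (ρR u) w = k * μ}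
        add_mem' := by
          rintro u v ⟨k, hk⟩ ⟨l, hl⟩
          exact ⟨k + l, by rw [ratVec_add, D.herm.add_left, hk, hl]; push_cast; ring⟩
        zero_mem' := ⟨0, by rw [ratVec_zero, D.herm.zero_left]; simp⟩
        smul_mem' := by
          rintro c u ⟨k, hk⟩
          exact ⟨c * k, by rw [ratVec_smul, D.herm.smul_left, hk]; push_cast; ring⟩ }
    exact ⟨μ, fun u hu => D.iso_perp_mem ![t] (by omega) S
      (fun s hs h => hμ s h (hs 0)) (fun i => by fin_cases i; exact hu)⟩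
  obtain ⟨μ, hμ⟩ := claim t ht ht0 htw
  obtain ⟨r₀, hr₀⟩ := D.exists_dual (u := ![t]) (linearIndependent_unique_iff.mpr (by simpa using ht0)) ![1]
  have hr₀' : D.rB r₀ t = 1 := hr₀ 0
  set pr : Ks → Ks := fun u => u - D.rB u t • r₀ with hpr
  have hpr0 : ∀ u, D.rB (pr u) t = 0 := fun u => by
    rw [hpr, D.rherm.sub_left, D.rherm.smul_left, hr₀', mul_one, sub_self]
  have hdiv : ∀ u, D.rB u t = 0 → B (ρR u) w / μ ∈ K ∧ B (ρR u) w / μ * μ = B (ρR u) w := by
    intro u hu
    obtain ⟨k, hk⟩ := hμ u hu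
    rw [hk]
    by_cases hμ0 : μ = 0
    · simp [hμ0, K.zero_mem]
    · rw [mul_div_assoc, div_self hμ0, mul_one]
      exact ⟨k.2, rfl⟩
  let φ : Ks →ₗ[K] K :=
    { toFun := fun u => ⟨_, (hdiv _ (hpr0 u)).1⟩
      map_add' := fun u v => Subtype.ext (by
        show B (ρR (pr (u + v))) w / μ = _ + _
        rw [show pr (u + v) = pr u + pr v by simp [hpr, D.rherm.add_left, add_smul]; abel, ratVec_add,
          D.herm.add_left, add_div])
      map_smul' := fun c u => Subtype.ext (by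
        show B (ρR (pr (c • u))) w / μ = (c : F) * _
        rw [show pr (c • u) = c • pr u by simp [hpr, D.rherm.smul_left, smul_sub, smul_smul], ratVec_smul,
          D.herm.smul_left, mul_div_assoc]) }
  obtain ⟨b, hb⟩ := D.rgood.exists_vec φ
  have hLb : ∀ u, B (ρR (pr u)) w = B (ρR u) (ρR b) * μ := fun u => by
    have h1 := congrArg Subtype.val (hb u)
    rw [rSesq_apply] at h1
    change B (ρR u) (ρR b) = B (ρR (pr u)) w / μ at h1
    rw [h1, (hdiv _ (hpr0 u)).2]
  set ν := B (ρR r₀) w with hν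
  have hL : ∀ u, B (ρR u) w = B (ρR u) (ρR b) * μ + B (ρR u) (ρR t) * ν := fun u => by
    rw [← hLb, hpr, ratVec_sub, ratVec_smul, D.herm.sub_left, D.herm.smul_left, coe_rB, hν]
    ring
  have e : w = σ μ • ρR b + σ ν • ρR t := by
    refine sub_eq_zero.mp (D.eq_zero_of_rat fun u => ?_)
    rw [D.herm.sub_right, D.herm.add_right, D.herm.smul_right, D.herm.smul_right, D.herm.invol, D.herm.invol, hL]
    ring
  have hμ0 : μ ≠ 0 := fun e0 => hirr ⟨σ ν, t, by rw [e, e0, map_zero, zero_smul, zero_add]⟩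
  have hbt : LinearIndependent K ![t, b] := indep_two ht0 fun h => by
    obtain ⟨k, rfl⟩ := Submodule.mem_span_singleton.mp h
    exact hirr ⟨σ μ * k + σ ν, t, by rw [e, ratVec_smul, smul_smul, add_smul]⟩
  have htb : D.rB t b = 0 := by
    apply Subtype.ext
    have h1 := hLb t
    rw [show pr t = t by simp [hpr, ht], htw] at h1
    rw [coe_rB]
    exact (mul_eq_zero.mp h1.symm).resolve_right hμ0
  have hbb : D.rB b b = 0 := by
    apply Subtype.ext
    have h1 := hw.1
    rw [e] at h1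
    simp only [D.herm.add_left, D.herm.add_right, D.herm.smul_left, D.herm.smul_right, D.herm.invol,
      D.B_rat_zero ht, D.B_rat_zero htb, D.B_rat_zero (D.rB_symm_zero htb), mul_zero, add_zero] at h1
    rw [coe_rB]
    simpa [hμ0, mul_eq_zero] using h1
  have hspan : Module.finrank K (Submodule.span K ({t, b} : Set Ks)) ≤ 2 := by
    have h := finrank_range_le_card (R := K) (![t, b] : Fin 2 → Ks)
    simp only [Matrix.range_cons, Matrix.range_empty, Set.union_empty, ← Set.insert_eq, Fintype.card_fin] at h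
    exact h
  obtain ⟨t₂, ht₂, ht₂₂, ht₂S⟩ := D.exists_iso_perp_notMem ![t, b] (Submodule.span K {t, b}) (by omega)
    (by omega)
  obtain ⟨μ', hμ'⟩ := claim t₂ ht₂₂ (ne_zero_of_notMem ht₂S) (by
    rw [hL, D.B_rat_zero (show D.rB t₂ b = 0 from ht₂ 1), D.B_rat_zero (show D.rB t₂ t = 0 from ht₂ 0)]
    ring)
  have hli3 : LinearIndependent K ![t₂, t, b] := by
    rw [show (![t₂, t, b] : Fin 3 → Ks) = Fin.cons t₂ ![t, b] from rfl, linearIndependent_finCons]
    refine ⟨hbt, ?_⟩
    rwa [Matrix.range_cons, Matrix.range_cons, Matrix.range_empty, Set.union_empty, ← Set.insert_eq]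
  obtain ⟨u₁, hu₁⟩ := D.exists_dual hli3 ![0, 0, 1]
  obtain ⟨u₂, hu₂⟩ := D.exists_dual hli3 ![0, 1, 0]
  obtain ⟨k, hk⟩ := hμ' u₁ (hu₁ 0)
  obtain ⟨k', hk'⟩ := hμ' u₂ (hu₂ 0)
  rw [hL, D.B_rat_zero (show D.rB u₁ t = 0 from hu₁ 1), D.B_rat_one (show D.rB u₁ b = 1 from hu₁ 2)] at hk
  rw [hL, D.B_rat_one (show D.rB u₂ t = 1 from hu₂ 1), D.B_rat_zero (show D.rB u₂ b = 0 from hu₂ 2)] at hk'
  rw [one_mul, zero_mul, add_zero] at hk
  rw [one_mul, zero_mul, zero_add] at hk'
  refine hirr ⟨σ μ', D.rconj k • b + D.rconj k' • t, ?_⟩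
  rw [e, hk, hk', ratVec_add, ratVec_smul, ratVec_smul, coe_rconj, coe_rconj, map_mul, map_mul]
  module

end UData

end Cfsg.Agent.Lib.SUSubfield
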