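import Cfsg.Agent.Lib.SUSubfield.CaseA
import Cfsg.Agent.Lib.SUSubfield.SLTwo

/-!
A centre with no rational isotropic vector orthogonal to it yields one that has such a vector.
-/

set_option autoImplicit false

namespace Cfsg.Agent.Lib.SUSubfield

open Matrix Cfsg.Agent.Lib Cfsg.Agent.Lib.SubfieldMax

variable {F : Type*} [Field F] [Finite F] {n : ℕ} {σ : F →+* F} {B : (Fin n → F) → (Fin n → F) → F}
  {K : Subfield F} {P : GL (Fin n) F} {M : Subgroup ((Fin n → F) ≃ₗ[F] (Fin n → F))}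

local notation "Vs" => (Fin n → F)
local notation "Ks" => (Fin n → K)
local notation "ρR" => ratVec K P

/-- The pair `(π₁, π₂)` with the data used to act on a plane. -/
structure Plane (D : UData σ B K P) (w : Fin n → F) (π₁ π₂ : Fin n → K) : Prop where
  indep : LinearIndependent K ![π₁, π₂]
  iso₁ : D.rB π₁ π₁ = 0
  iso₂ : D.rB π₂ π₂ = 0
  perp : D.rB π₁ π₂ = 0
  ne₁ : B (ratVec K P π₁) w ≠ 0
  norm : B (ratVec K P π₂) w * σ (B (ratVec K P π₂) w) /
    (B (ratVec K P π₁) w * σ (B (ratVec K P π₁) w)) ∉ K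

namespace UData

variable (D : UData σ B K P)
include D

omit [Finite F] in
theorem ratio_notMem {w : Vs} (hfull : ∀ t : Ks, D.rB t t = 0 → t ≠ 0 → B (ρR t) w ≠ 0) {x y : Ks}
    (hli : LinearIndependent K ![x, y]) (hx : D.rB x x = 0) (hy : D.rB y y = 0) (hxy : D.rB x y = 0) :
    B (ρR y) w / B (ρR x) w ∉ K := by
  intro hmem
  rw [LinearIndependent.pair_iff] at hli
  have hx0 : x ≠ 0 := fun e => one_ne_zero (hli 1 0 (by simp [e])).1
  set k : K := ⟨_, hmem⟩ with hk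
  refine hfull (y - k • x) ?_ (fun e => one_ne_zero (hli (-k) 1 (by rw [← e]; module)).2) ?_
  · simp [D.rherm.sub_left, D.rherm.sub_right, D.rherm.smul_left, D.rherm.smul_right, hx, hy, hxy,
      D.rB_symm_zero hxy]
  · rw [ratVec_sub, ratVec_smul, D.herm.sub_left, D.herm.smul_left, hk, div_mul_cancel₀ _ (hfull x hx hx0),
      sub_self]

theorem exists_plane (hn : 6 ≤ n) {w : Vs} (hfull : ∀ t : Ks, D.rB t t = 0 → t ≠ 0 → B (ρR t) w ≠ 0) :
    ∃ π₁ π₂, Plane D w π₁ π₂ := by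
  obtain ⟨x, y, hli, hx, hy, hxy⟩ := D.exists_iso_pair (by omega)
  have hq := D.ratio_notMem hfull hli hx hy hxy
  rw [LinearIndependent.pair_iff] at hli
  have hx0 : x ≠ 0 := fun e => one_ne_zero (hli 1 0 (by simp [e])).1
  have hlx := hfull x hx hx0
  have hσx : σ (B (ρR x) w) ≠ 0 := (map_ne_zero σ).mpr hlx
  set q := B (ρR y) w / B (ρR x) w with hqdef
  by_cases hN : q * σ q ∈ K
  swap
  · refine ⟨x, y, LinearIndependent.pair_iff.mpr hli, hx, hy, hxy, hlx, fun h => hN ?_⟩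
    rwa [hqdef, map_div₀, div_mul_div_comm]
  by_contra hno
  have hk : ∀ k : K, (k : F) * q + σ k * σ q ∈ K := by
    intro k
    by_contra hk
    by_cases hk0 : k = 0
    · subst hk0; exact hk (by simp [K.zero_mem])
    refine hno ⟨x, x + k • y, ?_, hx, ?_, ?_, hlx, fun h => hk ?_⟩
    · rw [LinearIndependent.pair_iff]
      intro a b e
      obtain ⟨h1, h2⟩ := hli (a + b) (b * k) (by rw [← e]; module)
      have hb : b = 0 := (mul_eq_zero.mp h2).resolve_right hk0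
      exact ⟨by simpa [hb] using h1, hb⟩
    · simp [D.rherm.add_left, D.rherm.add_right, D.rherm.smul_left, D.rherm.smul_right, hx, hy, hxy,
        D.rB_symm_zero hxy]
    · simp [D.rherm.add_right, D.rherm.smul_right, hx, hxy]
    · have e : B (ρR (x + k • y)) w * σ (B (ρR (x + k • y)) w) / (B (ρR x) w * σ (B (ρR x) w))
          = (1 + (k : F) * q) * (1 + σ k * σ q) := by
        rw [ratVec_add, ratVec_smul, D.herm.add_left, D.herm.smul_left, hqdef, map_div₀, map_add, map_mul]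
        field_simp
      rw [e] at h
      rw [show (k : F) * q + σ k * σ q
        = (1 + (k : F) * q) * (1 + σ k * σ q) - 1 - (k : F) * σ k * (q * σ q) by ring]
      exact K.sub_mem (K.sub_mem h K.one_mem) (K.mul_mem (K.mul_mem k.2 (D.stab k k.2)) hN)
  obtain ⟨o, ho, hne⟩ := D.nontrivK
  apply hq
  have h1 : q + σ q ∈ K := by simpa using hk 1
  have h2 := hk ⟨o, ho⟩
  have e : q = ((o * q + σ o * σ q) - σ o * (q + σ q)) / (o - σ o) := by
    rw [eq_div_iff (sub_ne_zero.mpr hne.symm)]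
    ring
  rw [e]
  exact K.div_mem (K.sub_mem h2 (K.mul_mem (D.stab o ho) h1)) (K.sub_mem ho (D.stab o ho))

theorem exists_plane_move (hO : Over D M) {w : Vs} (hw : Centre σ B K M w) {π₁ π₂ : Ks}
    (hp : Plane D w π₁ π₂) :
    ∃ g ∈ M, ∃ α₁ α₂ : F, ¬ (α₁ = 0 ∧ α₂ = 0) ∧ ∀ s : Ks, D.rB s π₁ = 0 → D.rB s π₂ = 0 →
      g (ρR s) = ρR s + (B (ρR s) w / B (ρR π₁) w) • (α₁ • ρR π₁ + α₂ • ρR π₂) := by
  classical
  obtain ⟨a, ha0, ha⟩ := D.rherm.exists_skew
  have ha' : (a : F) + σ a = 0 := congrArg Subtype.val ha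
  have haF : (a : F) ≠ 0 := fun e => ha0 (Subtype.ext e)
  set p₁ := ρR π₁ with hp₁
  set p₂ := ρR π₂ with hp₂
  set l₁ := B p₁ w with hl₁
  set l₂ := B p₂ w with hl₂
  set κ := l₂ / l₁ with hκ
  have hl₁0 : l₁ ≠ 0 := hp.ne₁
  have hσl₁ : σ l₁ ≠ 0 := (map_ne_zero σ).mpr hl₁0
  have b11 : B p₁ p₁ = 0 := D.B_rat_zero hp.iso₁
  have b22 : B p₂ p₂ = 0 := D.B_rat_zero hp.iso₂
  have b12 : B p₁ p₂ = 0 := D.B_rat_zero hp.perp
  have b21 : B p₂ p₁ = 0 := D.B_rat_zero (D.rB_symm_zero hp.perp)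
  have bw1 : B w p₁ = σ l₁ := (D.herm.symm _ _).symm
  have bw2 : B w p₂ = σ l₂ := (D.herm.symm _ _).symm
  set ρ := p₂ - κ • p₁ with hρ
  let fA : Vs → F := fun x => B x w / l₁
  let fC : Vs → F := fun x => B x p₁ / σ l₁
  let InX : Vs → Prop := fun v => ∃ b : F, v = fA v • p₁ + b • ρ + fC v • w
  let Fix : (Vs ≃ₗ[F] Vs) → Prop := fun g => ∀ x, B x p₁ = 0 → B x p₂ = 0 → B x w = 0 → g x = x
  have ρ1 : B ρ p₁ = 0 := by simp [hρ, D.herm.sub_left, D.herm.smul_left, b11, b21]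
  have ρ2 : B ρ p₂ = 0 := by simp [hρ, D.herm.sub_left, D.herm.smul_left, b12, b22]
  have ρw : B ρ w = 0 := by
    rw [hρ, D.herm.sub_left, D.herm.smul_left, ← hl₁, ← hl₂, hκ, div_mul_cancel₀ _ hl₁0, sub_self]
  have fA_comb : ∀ a b c : F, fA (a • p₁ + b • ρ + c • w) = a := fun a b c => by
    simp only [fA, D.herm.add_left, D.herm.smul_left, ← hl₁, ρw, hw.1]
    field_simp
    ring
  have fC_comb : ∀ a b c : F, fC (a • p₁ + b • ρ + c • w) = c := fun a b c => by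
    simp only [fC, D.herm.add_left, D.herm.smul_left, b11, ρ1, bw1]
    field_simp
    ring
  have inX : ∀ a b c : F, InX (a • p₁ + b • ρ + c • w) := fun a b c =>
    ⟨b, by rw [fA_comb, fC_comb]⟩
  let M0 : Submonoid (Vs ≃ₗ[F] Vs) :=
    { carrier := {g | g ∈ M ∧ Fix g ∧ InX (g p₁) ∧ InX (g w) ∧
        fA (g p₁) * fC (g w) - fA (g w) * fC (g p₁) = 1}
      one_mem' := by
        have e1 : p₁ = (1 : F) • p₁ + (0 : F) • ρ + (0 : F) • w := by module
        have e2 : w = (0 : F) • p₁ + (0 : F) • ρ + (1 : F) • w := by module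
        refine ⟨M.one_mem, fun x _ _ _ => rfl, ?_, ?_, ?_⟩
        · show InX p₁; rw [e1]; exact inX _ _ _
        · show InX w; rw [e2]; exact inX _ _ _
        · show fA p₁ * fC w - fA w * fC p₁ = 1
          rw [show fA p₁ = 1 by rw [e1, fA_comb], show fC p₁ = 0 by rw [e1, fC_comb],
            show fC w = 1 by rw [e2, fC_comb]]
          ring
      mul_mem' := by
        rintro g h ⟨hg, gF, ⟨gb, g1⟩, ⟨gb', g2⟩, gd⟩ ⟨hh, hF, ⟨hb, h1⟩, ⟨hb', h2⟩, hd⟩
        have hgρ : g ρ = ρ := gF ρ ρ1 ρ2 ρw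
        have e : ∀ a b c : F, g (a • p₁ + b • ρ + c • w) = (a * fA (g p₁) + c * fA (g w)) • p₁
            + (a * gb + b + c * gb') • ρ + (a * fC (g p₁) + c * fC (g w)) • w := fun a b c => by
          conv_lhs => rw [map_add, map_add, map_smul, map_smul, map_smul, hgρ, g1, g2]
          module
        refine ⟨M.mul_mem hg hh, fun x x1 x2 x3 => by rw [LinearEquiv.mul_apply, hF x x1 x2 x3, gF x x1 x2 x3],
          ?_, ?_, ?_⟩
        · rw [LinearEquiv.mul_apply, h1, e]; exact inX _ _ _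
        · rw [LinearEquiv.mul_apply, h2, e]; exact inX _ _ _
        · rw [LinearEquiv.mul_apply, LinearEquiv.mul_apply, h1, h2, e, e, fA_comb, fA_comb, fC_comb, fC_comb]
          linear_combination (fA (g p₁) * fC (g w) - fA (g w) * fC (g p₁)) * hd + gd }
  haveI : Finite (Vs ≃ₗ[F] Vs) := Finite.of_injective (fun e => (e : Vs → Vs)) DFunLike.coe_injective
  let G0 : Subgroup (Vs ≃ₗ[F] Vs) :=
    { M0 with
      inv_mem' := fun {g} hg => by
        have hpos : 0 < orderOf g := orderOf_pos g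
        have h : g⁻¹ = g ^ (orderOf g - 1) := inv_eq_of_mul_eq_one_right (by
          rw [← pow_succ', Nat.sub_add_cancel hpos, pow_orderOf_eq_one])
        rw [h]
        exact pow_mem (show g ∈ M0 from hg) _ }
  let φ : G0 →* Matrix.SpecialLinearGroup (Fin 2) F :=
    { toFun := fun g => ⟨!![fA (g.1 p₁), fA (g.1 w); fC (g.1 p₁), fC (g.1 w)], by
        rw [Matrix.det_fin_two_of]; exact g.2.2.2.2.2⟩
      map_one' := by
        have e1 : p₁ = (1 : F) • p₁ + (0 : F) • ρ + (0 : F) • w := by module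
        have e2 : w = (0 : F) • p₁ + (0 : F) • ρ + (1 : F) • w := by module
        refine Subtype.ext ?_
        show !![fA p₁, fA w; fC p₁, fC w] = 1
        rw [show fA p₁ = 1 by rw [e1, fA_comb], show fC p₁ = 0 by rw [e1, fC_comb],
          show fC w = 1 by rw [e2, fC_comb], show fA w = 0 by rw [e2, fA_comb], Matrix.one_fin_two]
      map_mul' := fun g h => by
        obtain ⟨g, hg, gF, ⟨gb, g1⟩, ⟨gb', g2⟩, gd⟩ := g
        obtain ⟨h, hh, hF, ⟨hb, h1⟩, ⟨hb', h2⟩, hd⟩ := h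
        have hgρ : g ρ = ρ := gF ρ ρ1 ρ2 ρw
        have e : ∀ a b c : F, g (a • p₁ + b • ρ + c • w) = (a * fA (g p₁) + c * fA (g w)) • p₁
            + (a * gb + b + c * gb') • ρ + (a * fC (g p₁) + c * fC (g w)) • w := fun a b c => by
          conv_lhs => rw [map_add, map_add, map_smul, map_smul, map_smul, hgρ, g1, g2]
          module
        refine Subtype.ext ?_
        show !![fA (g (h p₁)), fA (g (h w)); fC (g (h p₁)), fC (g (h w))]
          = !![fA (g p₁), fA (g w); fC (g p₁), fC (g w)] * !![fA (h p₁), fA (h w); fC (h p₁), fC (h w)]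
        conv_lhs => rw [h1, h2, e, e, fA_comb, fA_comb, fC_comb, fC_comb]
        rw [Matrix.mul_fin_two]
        congr 1 <;> simp [mul_comm] }
  -- transvections in `G0`
  have hgen : ∀ v : Vs, (∃ x y z : F, v = x • p₁ + y • ρ + z • w) → ∀ c : F, HasEich B M v 0 c →
      c * (fA v * B p₁ v + fC v * B w v) = 0 →
      ∃ g : G0, g.1 p₁ = p₁ + (c * B p₁ v) • v ∧ g.1 w = w + (c * B w v) • v := by
    rintro v ⟨x, y, z, hv⟩ c ⟨g, hg, e⟩ htr
    have e' : ∀ u, g u = u + (c * B u v) • v := fun u => by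
      rw [e, smul_zero, add_zero, D.herm.zero_right, sub_zero]
    have hgF : Fix g := fun u u1 u2 u3 => by
      have hu : B u v = 0 := by
        rw [hv, D.herm.add_right, D.herm.add_right, D.herm.smul_right, D.herm.smul_right, D.herm.smul_right, hρ,
          D.herm.sub_right, D.herm.smul_right, u1, u2, u3]
        ring
      rw [e', hu, mul_zero, zero_smul, add_zero]
    have hfv : fA v = x ∧ fC v = z := ⟨by rw [hv, fA_comb], by rw [hv, fC_comb]⟩
    have k1 : g p₁ = (1 + c * B p₁ v * x) • p₁ + (c * B p₁ v * y) • ρ + (c * B p₁ v * z) • w := by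
      rw [e']; conv_lhs => rw [hv]
      match_scalars <;> rw [← hv] <;> ring
    have k2 : g w = (c * B w v * x) • p₁ + (c * B w v * y) • ρ + (1 + c * B w v * z) • w := by
      rw [e']; conv_lhs => rw [hv]
      match_scalars <;> rw [← hv] <;> ring
    refine ⟨⟨g, hg, hgF, by rw [k1]; exact inX _ _ _, by rw [k2]; exact inX _ _ _, ?_⟩, e' _, e' _⟩
    rw [k1, k2, fA_comb, fA_comb, fC_comb, fC_comb]
    rw [hfv.1, hfv.2] at htr
    linear_combination htr
  have hskew : ∀ v : Vs, Centre σ B K M v → HasEich B M v 0 (a : F) := fun v hv => hv.2 a a.2 ha'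
  have e1 : p₁ = (1 : F) • p₁ + (0 : F) • ρ + (0 : F) • w := by module
  have e2 : p₂ = κ • p₁ + (1 : F) • ρ + (0 : F) • w := by rw [hρ]; module
  have e3 : w = (0 : F) • p₁ + (0 : F) • ρ + (1 : F) • w := by module
  obtain ⟨g₁, g11, g12⟩ := hgen p₁ ⟨_, _, _, e1⟩ a (hskew _ (D.centre_rat hO hp.iso₁))
    (by rw [show fC p₁ = 0 by rw [e1, fC_comb], b11]; ring)
  obtain ⟨g₂, g21, g22⟩ := hgen p₂ ⟨_, _, _, e2⟩ a (hskew _ (D.centre_rat hO hp.iso₂))
    (by rw [show fC p₂ = 0 by rw [e2, fC_comb], b12]; ring)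
  obtain ⟨g₃, g31, g32⟩ := hgen w ⟨_, _, _, e3⟩ a (hskew _ hw)
    (by rw [show fA w = 0 by rw [e3, fA_comb], hw.1]; ring)
  rw [b11, mul_zero, zero_smul, add_zero] at g11
  rw [b12, mul_zero, zero_smul, add_zero] at g21
  rw [hw.1, mul_zero, zero_smul, add_zero] at g32
  rw [bw1] at g12
  rw [bw2] at g22
  rw [← hl₁] at g31
  have m1 : (φ g₁).1 = !![1, a * σ l₁; 0, 1] := by
    show !![fA (g₁.1 p₁), fA (g₁.1 w); fC (g₁.1 p₁), fC (g₁.1 w)] = _
    have u1 : g₁.1 p₁ = (1 : F) • p₁ + (0 : F) • ρ + (0 : F) • w := by rw [g11]; exact e1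
    have u2 : g₁.1 w = (a * σ l₁) • p₁ + (0 : F) • ρ + (1 : F) • w := by rw [g12]; module
    rw [u1, u2, fA_comb, fA_comb, fC_comb, fC_comb]
  have m2 : (φ g₂).1 = !![1, a * σ l₂ * κ; 0, 1] := by
    show !![fA (g₂.1 p₁), fA (g₂.1 w); fC (g₂.1 p₁), fC (g₂.1 w)] = _
    have u1 : g₂.1 p₁ = (1 : F) • p₁ + (0 : F) • ρ + (0 : F) • w := by rw [g21]; exact e1
    have u2 : g₂.1 w = (a * σ l₂ * κ) • p₁ + (a * σ l₂) • ρ + (1 : F) • w := by rw [g22, hρ]; module
    rw [u1, u2, fA_comb, fA_comb, fC_comb, fC_comb]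
  have m3 : (φ g₃).1 1 0 = a * l₁ := by
    show fC (g₃.1 p₁) = _
    have u1 : g₃.1 p₁ = (1 : F) • p₁ + (0 : F) • ρ + (a * l₁) • w := by rw [g31]; module
    rw [u1, fC_comb]
  set N := l₂ * σ l₂ / (l₁ * σ l₁) with hN
  have hNK : N ∉ K := hp.norm
  have hx2 : (a : F) * σ l₂ * κ = a * σ l₁ * N := by rw [hN, hκ]; field_simp
  let el : Fin 4 → G0 := ![1, g₁, g₂, g₁ * g₂]
  let val : Fin 4 → F := ![0, 1, N, 1 + N]
  have hel : ∀ i, (φ (el i)).1 = !![1, (a : F) * σ l₁ * val i; 0, 1] := by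
    intro i
    fin_cases i
    · simp [el, val, Matrix.one_fin_two]
    · simp [el, val, m1]
    · simp [el, val, m2, hx2]
    · simp [el, val, map_mul, m1, m2, hx2]
      ring
  have hval : Function.Injective val := by
    have n0 : N ≠ 0 := fun e => hNK (e ▸ K.zero_mem)
    have n1 : N ≠ 1 := fun e => hNK (e ▸ K.one_mem)
    have n2 : 1 + N ≠ 0 := fun e => hNK (by
      rw [show N = -1 by linear_combination e]; exact K.neg_mem K.one_mem)
    intro i j e
    fin_cases i <;> fin_cases j <;> simp [val] at e ⊢ <;>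
      first | exact n0 e | exact n0 e.symm | exact n1 e | exact n1 e.symm | exact n2 e | exact n2 e.symm
  haveI : Finite φ.range := Finite.of_surjective φ.rangeRestrict φ.rangeRestrict_surjective
  obtain ⟨_, ⟨g, rfl⟩, hg10, hg00⟩ := exists_torus_elem φ.range
    ⟨fun i => ⟨φ (el i), el i, rfl⟩, fun i j e => hval (by
      have e' : (φ (el i)).1 = (φ (el j)).1 := congrArg (fun z : φ.range => z.1.1) e
      rw [hel, hel] at e'
      exact mul_left_cancel₀ (mul_ne_zero haF hσl₁) (by simpa using congrFun (congrFun e' 0) 1)),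
      fun i => by
        show (φ (el i)).1 1 0 = 0 ∧ (φ (el i)).1 0 0 = 1
        rw [hel]; simp⟩
    ⟨φ g₃, ⟨g₃, rfl⟩, by rw [m3]; exact mul_ne_zero haF hl₁0⟩
  obtain ⟨b, hb⟩ := g.2.2.2.1
  change fC (g.1 p₁) = 0 at hg10
  change fA (g.1 p₁) ≠ 1 at hg00
  set d := fA (g.1 p₁) with hd
  rw [hg10] at hb
  refine ⟨g.1, g.2.1, d - 1 - b * κ, b, fun ⟨h1, h2⟩ => ?_, fun s h1 h2 => ?_⟩
  · rw [h2, zero_mul, sub_zero, sub_eq_zero] at h1
    exact hg00 h1
  · set c := B (ρR s) w / l₁ with hc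
    have hs1 : B (ρR s) p₁ = 0 := D.B_rat_zero h1
    have hs2 : B (ρR s) p₂ = 0 := D.B_rat_zero h2
    have h0 : g.1 (ρR s - c • p₁) = ρR s - c • p₁ := g.2.2.1 _
      (by rw [D.herm.sub_left, D.herm.smul_left, hs1, b11]; ring)
      (by rw [D.herm.sub_left, D.herm.smul_left, hs2, b12]; ring)
      (by rw [D.herm.sub_left, D.herm.smul_left, ← hl₁, hc, div_mul_cancel₀ _ hl₁0, sub_self])
    rw [map_sub, map_smul, sub_eq_iff_eq_add, hb] at h0
    rw [h0, hρ]
    module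

theorem exists_centre_caseA (hO : Over D M) (hn : 6 ≤ n) {w : Vs} (hw : Centre σ B K M w)
    (hfull : ∀ t : Ks, D.rB t t = 0 → t ≠ 0 → B (ρR t) w ≠ 0) :
    ∃ z, Centre σ B K M z ∧ ¬ IsRatLine K P z ∧
      ∃ t : Ks, D.rB t t = 0 ∧ t ≠ 0 ∧ B (ρR t) z = 0 := by
  obtain ⟨π₁, π₂, hp⟩ := D.exists_plane hn hfull
  obtain ⟨g, hg, α₁, α₂, hα, hgs⟩ := D.exists_plane_move hO hw hp
  have hli := hp.indep
  rw [LinearIndependent.pair_iff] at hli
  have hπ₁ : π₁ ≠ 0 := fun e => one_ne_zero (hli 1 0 (by simp [e])).1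
  by_contra hno
  set l₁ := B (ρR π₁) w with hl₁
  have key : ∀ s : Ks, D.rB s s = 0 → D.rB s π₁ = 0 → D.rB s π₂ = 0 → s ∉ Submodule.span K {π₁, π₂} →
      B (ρR s) w / l₁ * α₁ ∈ K ∧ B (ρR s) w / l₁ * α₂ ∈ K := by
    intro s hs h1 h2 hsS
    have hz := D.centre_map hO hg (D.centre_rat hO hs)
    have hgz := hgs s h1 h2
    obtain ⟨l, u, hlu⟩ : IsRatLine K P (g (ρR s)) := by
      by_contra hirr
      refine hno ⟨_, hz, hirr, π₁, hp.iso₁, hπ₁, ?_⟩
      rw [hgz, D.herm.add_right, D.herm.smul_right, D.herm.add_right, D.herm.smul_right, D.herm.smul_right,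
        D.B_rat_zero (D.rB_symm_zero h1), D.B_rat_zero hp.iso₁, D.B_rat_zero hp.perp]
      ring
    have hli3 : LinearIndependent K ![s, π₁, π₂] := by
      rw [show (![s, π₁, π₂] : Fin 3 → Ks) = Fin.cons s ![π₁, π₂] from rfl, linearIndependent_finCons]
      refine ⟨hp.indep, ?_⟩
      rwa [Matrix.range_cons, Matrix.range_cons, Matrix.range_empty, Set.union_empty, ← Set.insert_eq]
    have hsym : ∀ {r v : Ks} {k : K}, D.rB r v = k → D.rB v r = D.rconj k := fun h => by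
      rw [← h, D.rherm.symm]
    have hval : ∀ r : Ks, B (g (ρR s)) (ρR r) = l * B (ρR u) (ρR r) := fun r => by
      rw [hlu, D.herm.smul_left]
    obtain ⟨r₀, hr₀⟩ := D.exists_dual hli3 ![1, 0, 0]
    obtain ⟨r₁, hr₁⟩ := D.exists_dual hli3 ![0, 1, 0]
    obtain ⟨r₂, hr₂⟩ := D.exists_dual hli3 ![0, 0, 1]
    have h0 := hval r₀
    have k1 := hval r₁
    have k2 := hval r₂
    simp only [hgz, D.herm.add_left, D.herm.smul_left] at h0 k1 k2
    rw [D.B_rat_eq (hsym (show D.rB r₀ s = 1 from hr₀ 0)),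
      D.B_rat_eq (hsym (show D.rB r₀ π₁ = 0 from hr₀ 1)),
      D.B_rat_eq (hsym (show D.rB r₀ π₂ = 0 from hr₀ 2))] at h0
    rw [D.B_rat_eq (hsym (show D.rB r₁ s = 0 from hr₁ 0)),
      D.B_rat_eq (hsym (show D.rB r₁ π₁ = 1 from hr₁ 1)),
      D.B_rat_eq (hsym (show D.rB r₁ π₂ = 0 from hr₁ 2))] at k1
    rw [D.B_rat_eq (hsym (show D.rB r₂ s = 0 from hr₂ 0)),
      D.B_rat_eq (hsym (show D.rB r₂ π₁ = 0 from hr₂ 1)),
      D.B_rat_eq (hsym (show D.rB r₂ π₂ = 1 from hr₂ 2))] at k2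
    simp at h0 k1 k2
    have hl : l ∈ K := by
      rw [eq_inv_of_mul_eq_one_left h0.symm]
      exact K.inv_mem (D.mem u r₀)
    exact ⟨k1 ▸ K.mul_mem hl (D.mem u r₁), k2 ▸ K.mul_mem hl (D.mem u r₂)⟩
  have hspan : Module.finrank K (Submodule.span K ({π₁, π₂} : Set Ks)) ≤ 2 := by
    have h := finrank_range_le_card (R := K) (![π₁, π₂] : Fin 2 → Ks)
    simp only [Matrix.range_cons, Matrix.range_empty, Set.union_empty, ← Set.insert_eq, Fintype.card_fin] at h
    exact h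
  obtain ⟨s₁, hs₁, hs₁₁, hs₁S⟩ := D.exists_iso_perp_notMem ![π₁, π₂] (Submodule.span K {π₁, π₂}) (by omega)
    (by omega)
  obtain ⟨a1, a2⟩ := key s₁ hs₁₁ (hs₁ 0) (hs₁ 1) hs₁S
  have hshift : ∀ i : Fin 2, B (ρR (![π₁, π₂] i)) w / l₁ * α₁ ∈ K ∧ B (ρR (![π₁, π₂] i)) w / l₁ * α₂ ∈ K := by
    intro i
    set p := (![π₁, π₂] : Fin 2 → Ks) i with hp'
    have hpS : p ∈ Submodule.span K ({π₁, π₂} : Set Ks) := by
      refine Submodule.subset_span ?_
      fin_cases i <;> simp [hp']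
    have hp1 : D.rB p π₁ = 0 := by fin_cases i <;> simp [hp', hp.iso₁, D.rB_symm_zero hp.perp]
    have hp2 : D.rB p π₂ = 0 := by fin_cases i <;> simp [hp', hp.iso₂, hp.perp]
    have hps : D.rB p s₁ = 0 := D.rB_symm_zero (hs₁ i)
    have hpp : D.rB p p = 0 := by fin_cases i <;> simp [hp', hp.iso₁, hp.iso₂]
    obtain ⟨b1, b2⟩ := key (s₁ + p)
      (by simp [D.rherm.add_left, D.rherm.add_right, hs₁₁, hpp, hps, D.rB_symm_zero hps])
      (by rw [D.rherm.add_left, hp1, show D.rB s₁ π₁ = 0 from hs₁ 0, add_zero])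
      (by rw [D.rherm.add_left, hp2, show D.rB s₁ π₂ = 0 from hs₁ 1, add_zero])
      fun h => hs₁S (by simpa using Submodule.sub_mem _ h hpS)
    rw [ratVec_add, D.herm.add_left, add_div, add_mul] at b1 b2
    exact ⟨by simpa using K.sub_mem b1 a1, by simpa using K.sub_mem b2 a2⟩
  have hl₁0 : l₁ ≠ 0 := hp.ne₁
  obtain ⟨c1, c2⟩ := hshift 0
  obtain ⟨d1, d2⟩ := hshift 1
  simp only [Matrix.cons_val_zero, Matrix.cons_val_one, ← hl₁, div_self hl₁0, one_mul] at c1 c2 d1 d2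
  apply D.ratio_notMem hfull hp.indep hp.iso₁ hp.iso₂ hp.perp
  rw [← hl₁]
  by_cases h1 : α₁ = 0
  · have h2 : α₂ ≠ 0 := fun e => hα ⟨h1, e⟩
    simpa [h2] using K.div_mem d2 c2
  · simpa [h1] using K.div_mem d1 c1

end UData

end Cfsg.Agent.Lib.SUSubfield
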