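import Cfsg.Agent.Lib.SUSubfield.CaseB

/-!
The overgroup of a rational special unitary group that is not contained in the subfield subgroup contains every
transvection.
-/

set_option autoImplicit false

namespace Cfsg.Agent.Lib.SUSubfield

open Matrix Cfsg.Agent.Lib Cfsg.Agent.Lib.SubfieldMax

variable {F : Type*} [Field F] [Finite F] {n : ℕ} {σ : F →+* F} {B : (Fin n → F) → (Fin n → F) → F}
  {K : Subfield F} {P : GL (Fin n) F} {M : Subgroup ((Fin n → F) ≃ₗ[F] (Fin n → F))}

local notation "Vs" => (Fin n → F)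
local notation "Ks" => (Fin n → K)
local notation "ρR" => ratVec K P

namespace UData

variable (D : UData σ B K P)
include D

theorem hasEich_transvection_rat (hn : 6 ≤ n) (hgood : ∀ x, Good D M x) {b : Ks} (hb0 : b ≠ 0)
    (hb : D.rB b b = 0) {d : F} (hd : d + σ d = 0) : HasEich B M (ρR b) 0 d := by
  obtain ⟨t, htb, ht, htS⟩ := D.exists_iso_perp_notMem ![b] (Submodule.span K {b}) (by omega)
    (by rw [finrank_span_singleton hb0]; omega)
  have htb' : D.rB t b = 0 := htb 0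
  have hli := indep_two hb0 htS
  obtain ⟨r, hr, hrt, hrb⟩ := D.exists_partner_perp hli ht htb'
  obtain ⟨δ, hδ0, hδ⟩ := D.rherm.exists_skew
  have ht' : D.rB (δ • r) (δ • r) = 0 := by rw [D.rherm.smul_left, D.rherm.smul_right, hr]; simp
  have ht't : D.rB (δ • r) t = δ := by rw [D.rherm.smul_left, hrt, mul_one]
  have ht'b : D.rB (δ • r) b = 0 := by rw [D.rherm.smul_left, hrb, mul_zero]
  have hli1 : LinearIndependent K ![b, δ • r] := indep_two hb0 fun h => by
    obtain ⟨k, hk⟩ := Submodule.mem_span_singleton.mp h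
    rw [← hk, D.rherm.smul_left, D.rB_symm_zero htb', mul_zero] at ht't
    exact hδ0 ht't.symm
  have hsum : D.rB (t + δ • r) (t + δ • r) = 0 := by
    rw [D.rherm.add_left, D.rherm.add_right, D.rherm.add_right, ht, ht', ht't, ← D.rherm.symm (δ • r) t, ht't]
    linear_combination hδ
  have hli2 : LinearIndependent K ![b, t + δ • r] := indep_two hb0 fun h => by
    obtain ⟨k, hk⟩ := Submodule.mem_span_singleton.mp h
    have h1 := congrArg (fun z => D.rB z t) hk
    simp only [D.rherm.smul_left, D.rherm.add_left, D.rB_symm_zero htb', ht, hrt, mul_zero, mul_one, zero_add] at h1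
    exact hδ0 h1.symm
  have hδF : (δ : F) ≠ 0 := fun e => hδ0 (Subtype.ext e)
  have hδσ : σ (δ : F) = -(δ : F) := by
    have h1 : (δ : F) + σ δ = 0 := congrArg Subtype.val hδ
    linear_combination h1
  obtain ⟨c, hc⟩ := Forms.exists_norm_eq D.herm.nontriv D.herm.invol (c := -d / (δ : F)) (by
    rw [map_div₀, map_neg, show σ d = -d by linear_combination hd, hδσ, neg_neg, neg_div, div_neg])
  have z : ∀ x : Ks, D.rB x b = 0 → ∀ k : F, B (k • ρR x) (ρR b) = 0 := fun x hx k => by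
    rw [D.herm.smul_left, D.B_rat_zero hx, mul_zero]
  have hbb : B (ρR b) (ρR b) = 0 := D.B_rat_zero hb
  have hsb : D.rB (t + δ • r) b = 0 := by rw [D.rherm.add_left, htb', ht'b, add_zero]
  have h1 := hasEich_mul D.herm hbb (z t htb' c) (z _ ht'b c)
    (hgood c b t hli hb ht (D.rB_symm_zero htb')) (hgood c b _ hli1 hb ht' (D.rB_symm_zero ht'b))
  have h2 := hasEich_inv D.herm hbb (z _ hsb c)
    (by rw [map_zero, D.herm.smul_left, D.herm.smul_right, D.B_rat_zero hsum]; ring)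
    (hgood c b _ hli2 hb hsum (D.rB_symm_zero hsb))
  have h3 := hasEich_mul D.herm hbb
    (by rw [D.herm.neg_left, z _ hsb c, neg_zero])
    (by rw [D.herm.add_left, z t htb' c, z _ ht'b c, add_zero]) h2 h1
  refine hasEich_congr ?_ ?_ h3
  · rw [ratVec_add]; module
  · rw [← smul_add, ← ratVec_add]
    simp only [D.herm.neg_right, D.herm.smul_left, D.herm.smul_right, D.B_rat_zero hsum, D.B_rat_eq ht't,
      map_zero]
    rw [eq_div_iff hδF] at hc
    linear_combination -hc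

theorem hasEich_all (hn : 4 ≤ n) (hgood : ∀ x, Good D M x)
    (htrans : ∀ b : Ks, b ≠ 0 → D.rB b b = 0 → ∀ d : F, d + σ d = 0 → HasEich B M (ρR b) 0 d) {f : Ks} (hf0 : f ≠ 0) (hf : D.rB f f = 0)
    {w : Vs} (hw : B w (ρR f) = 0) {c : F} (hc : c + σ c + B w w = 0) : HasEich B M (ρR f) w c := by
  have hff : B (ρR f) (ρR f) = 0 := D.B_rat_zero hf
  let S : Vs → Prop := fun w => B w (ρR f) = 0 ∧ ∃ c, c + σ c + B w w = 0 ∧ HasEich B M (ρR f) w c
  have hadd : ∀ u v, S u → S v → S (u + v) := by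
    rintro u v ⟨hu, c, hc, h⟩ ⟨hv, c', hc', h'⟩
    refine ⟨by rw [D.herm.add_left, hu, hv, add_zero], _, ?_, hasEich_mul D.herm hff hu hv h h'⟩
    rw [map_sub, map_add, D.herm.symm, D.herm.add_left, D.herm.add_right, D.herm.add_right]
    linear_combination hc + hc'
  have hzero : S 0 := ⟨D.herm.zero_left _, 0, by rw [map_zero, D.herm.zero_left]; ring, 1, M.one_mem,
    fun x => by simp [D.herm.zero_right]⟩
  have hiso : ∀ b : Ks, D.rB b b = 0 → D.rB b f = 0 → ∀ y : F, S (y • ρR b) := by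
    intro b hb hbf y
    have hyf : B (y • ρR b) (ρR f) = 0 := by rw [D.herm.smul_left, D.B_rat_zero hbf, mul_zero]
    by_cases hmem : b ∈ Submodule.span K {f}
    · obtain ⟨k, rfl⟩ := Submodule.mem_span_singleton.mp hmem
      refine ⟨hyf, σ (y * k) - y * k, ?_, 1, M.one_mem, fun x => ?_⟩
      · rw [D.herm.smul_left, D.herm.smul_right, D.B_rat_zero hb, map_sub, D.herm.invol]; ring
      · show x = _
        simp only [ratVec_smul, smul_smul, D.herm.smul_right, map_mul]
        module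
    · exact ⟨hyf, 0, by rw [D.herm.smul_left, D.herm.smul_right, D.B_rat_zero hb, map_zero]; ring,
        hgood y f b (indep_two hf0 hmem) hf hb (D.rB_symm_zero hbf)⟩
  let T : Submodule K Ks :=
    { carrier := {u | ∀ y : F, S (y • ρR u)}
      add_mem' := fun {u v} hu hv y => by
        rw [ratVec_add, smul_add]
        exact hadd _ _ (hu y) (hv y)
      zero_mem' := fun y => by rw [ratVec_zero, smul_zero]; exact hzero
      smul_mem' := fun k u hu y => by
        rw [ratVec_smul, smul_smul]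
        exact hu _ }
  have hT : ∀ u, D.rB u f = 0 → ∀ y : F, S (y • ρR u) := fun u hu =>
    D.iso_perp_mem ![f] (by omega) T (fun x hx hxx => hiso x hxx (hx 0)) (fun i => by fin_cases i; exact hu)
  obtain ⟨e, -, hef⟩ := D.exists_partner hf0 hf
  set E : Fin n → Ks := fun i => Pi.single i 1
  set co := ((P⁻¹ : GL (Fin n) F) : Matrix (Fin n) (Fin n) F) *ᵥ w
  have hwsum : w = ∑ i, co i • ρR (E i - D.rB (E i) f • e) := by
    have h0 : w = ∑ i, co i • ρR (E i) := eq_sum_ratVec w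
    have h1 : ∑ i, co i * B (ρR (E i)) (ρR f) = 0 := by
      let L : Vs →ₗ[F] F :=
        { toFun := fun x => B x (ρR f)
          map_add' := fun x y => D.herm.add_left x y _
          map_smul' := fun c x => D.herm.smul_left c x _ }
      have h := congrArg L h0
      rw [map_sum] at h
      simp only [map_smul, smul_eq_mul] at h
      change B w (ρR f) = ∑ i, co i * B (ρR (E i)) (ρR f) at h
      rw [← h, hw]
    simp only [ratVec_sub, ratVec_smul, smul_sub, smul_smul, coe_rB]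
    rw [Finset.sum_sub_distrib, ← Finset.sum_smul, h1, zero_smul, sub_zero, ← h0]
  obtain ⟨-, c₀, hc₀, h₀⟩ : S w := by
    rw [hwsum]
    refine Finset.sum_induction _ S hadd hzero fun i _ => hT _ ?_ _
    rw [D.rherm.sub_left, D.rherm.smul_left, hef, mul_one, sub_self]
  have hskew : (c - c₀) + σ (c - c₀) = 0 := by rw [map_sub]; linear_combination hc - hc₀
  have h := hasEich_mul D.herm hff hw (D.herm.zero_left _) h₀
    (htrans f hf0 hf _ hskew)
  exact hasEich_congr (add_zero _) (by rw [D.herm.zero_left]; ring) h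

theorem transvection_mem (hO : Over D M) (hn : 4 ≤ n) (hgood : ∀ x, Good D M x)
    (htrans : ∀ b : Ks, b ≠ 0 → D.rB b b = 0 → ∀ d : F, d + σ d = 0 → HasEich B M (ρR b) 0 d) {v : Vs} (hv : B v v = 0)
    {d : F} (hd : d + σ d = 0) : HasEich B M v 0 d := by
  by_cases hv0 : v = 0
  · subst hv0
    exact ⟨1, M.one_mem, fun x => by simp⟩
  obtain ⟨f, hf, hvf⟩ : ∃ f : Ks, D.rB f f = 0 ∧ B v (ρR f) ≠ 0 := by
    by_contra hno
    push Not at hno
    let S : Submodule K Ks :=
      { carrier := {u | B v (ρR u) = 0}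
        add_mem' := fun {a b} ha hb => by
          simp only [Set.mem_setOf_eq] at ha hb ⊢
          rw [ratVec_add, D.herm.add_right, ha, hb, add_zero]
        zero_mem' := by show B v (ρR 0) = 0; rw [ratVec_zero, D.herm.zero_right]
        smul_mem' := fun k a ha => by
          simp only [Set.mem_setOf_eq] at ha ⊢
          rw [ratVec_smul, D.herm.smul_right, ha, mul_zero] }
    refine hv0 (D.eq_zero_of_rat fun u => ?_)
    have h : B v (ρR u) = 0 :=
      D.iso_perp_mem (![] : Fin 0 → Ks) (by omega) S (fun x _ hx => hno x hx) (x := u) (fun i => i.elim0)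
    rw [← D.herm.symm, h, map_zero]
  have hf0 : f ≠ 0 := fun e => hvf (by rw [e, ratVec_zero, D.herm.zero_right])
  obtain ⟨e, he, hef⟩ := D.exists_partner hf0 hf
  have he0 : e ≠ 0 := fun e0 => by rw [e0, D.rherm.zero_left] at hef; exact zero_ne_one hef
  set a := B v (ρR f) with ha
  set v' := a⁻¹ • v with hv'
  have hv'f : B v' (ρR f) = 1 := by rw [hv', D.herm.smul_left, ← ha, inv_mul_cancel₀ hvf]
  have hv'v : B v' v' = 0 := by rw [hv', D.herm.smul_left, D.herm.smul_right, hv]; simp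
  have hee : B (ρR e) (ρR e) = 0 := D.B_rat_zero he
  have hef' : B (ρR e) (ρR f) = 1 := D.B_rat_one hef
  set w := v' - ρR e with hw
  obtain ⟨g, hg, eg⟩ := D.hasEich_all hn hgood htrans hf0 hf (w := w)
    (by rw [hw, D.herm.sub_left, hv'f, hef', sub_self]) (c := B (ρR e) w) (by
      rw [D.herm.symm, hw]
      simp only [D.herm.sub_left, D.herm.sub_right, hv'v, hee]
      ring)
  have hge : g (ρR e) = v' := by
    rw [eg, hef', mul_one, sub_self, zero_smul, add_zero, one_smul, hw, add_sub_cancel]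
  have hskew : d * (a * σ a) + σ (d * (a * σ a)) = 0 := by
    rw [map_mul, map_mul, D.herm.invol]; linear_combination (a * σ a) * hd
  have h := hasEich_conj D.herm hO.iso hg (htrans e he0 he _ hskew)
  rw [hge, map_zero, ← hasEich_smul_centre D.herm, hv', smul_inv_smul₀ hvf] at h
  exact h

/-- An element not preserving the rational lines supplies a non-rational centre. -/
theorem exists_centre_not_line (hO : Over D M) (hn : 4 ≤ n) {g : Vs ≃ₗ[F] Vs} (hg : g ∈ M)
    (hgK : ¬ ∃ l : F, l ≠ 0 ∧ ∀ u : Ks, ∃ v : Ks, g (ρR u) = l • ρR v) :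
    ∃ w, Centre σ B K M w ∧ ¬ IsRatLine K P w := by
  by_contra hno
  have hall : ∀ u : Ks, D.rB u u = 0 → ∃ (l : F) (v : Ks), g (ρR u) = l • ρR v := fun u hu => by
    by_contra h
    exact hno ⟨_, D.centre_map hO hg (D.centre_rat hO hu), h⟩
  choose l v hlv using hall
  have hpair : ∀ (u x : Ks) (hu : D.rB u u = 0) (hx : D.rB x x = 0), D.rB u x ≠ 0 →
      l u hu * σ (l x hx) ∈ K ∧ l u hu * σ (l x hx) ≠ 0 := by
    intro u x hu hx hne
    have h1 := hO.iso g hg (ρR u) (ρR x)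
    rw [hlv u hu, hlv x hx, D.herm.smul_left, D.herm.smul_right, ← mul_assoc] at h1
    have hne' : B (ρR u) (ρR x) ≠ 0 := fun e => hne (Subtype.ext e)
    have h2 := left_ne_zero_of_mul (h1 ▸ hne' : l u hu * σ (l x hx) * _ ≠ 0)
    refine ⟨?_, h2⟩
    rw [← mul_div_cancel_right₀ (l u hu * σ (l x hx)) (right_ne_zero_of_mul (h1 ▸ hne' : _ * B (ρR (v u hu)) (ρR (v x hx)) ≠ 0)), h1]
    exact K.div_mem (D.mem u x) (D.mem _ _)
  obtain ⟨e, -, he, heS⟩ := D.exists_iso_perp_notMem (![] : Fin 0 → Ks) ⊥ (by omega) (by rw [finrank_bot]; omega)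
  have he0 : e ≠ 0 := ne_zero_of_notMem heS
  have key : ∀ u (hu : D.rB u u = 0), u ≠ 0 → l u hu / l e he ∈ K ∧ l e he ≠ 0 := by
    intro u hu hu0
    obtain ⟨x, hx, hux, hex⟩ : ∃ x, D.rB x x = 0 ∧ D.rB u x ≠ 0 ∧ D.rB e x ≠ 0 := by
      obtain ⟨r₁, hr₁, h1⟩ := D.exists_partner hu0 hu
      obtain ⟨r₂, hr₂, h2⟩ := D.exists_partner he0 he
      have flip : ∀ {a b : Ks}, D.rB a b ≠ 0 → D.rB b a ≠ 0 := fun h e0 => h (D.rB_symm_zero e0)
      by_cases c1 : D.rB r₁ e = 0
      swap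
      · exact ⟨r₁, hr₁, flip (by rw [h1]; exact one_ne_zero), flip c1⟩
      by_cases c2 : D.rB r₂ u = 0
      swap
      · exact ⟨r₂, hr₂, flip c2, flip (by rw [h2]; exact one_ne_zero)⟩
      obtain ⟨k, hk0, hk⟩ : ∃ k : K, k ≠ 0 ∧ D.rB (r₁ + k • r₂) (r₁ + k • r₂) = 0 := by
        obtain ⟨δ, hδ0, hδ⟩ := D.rherm.exists_skew
        by_cases hτ : D.rB r₁ r₂ = 0
        · exact ⟨1, one_ne_zero, by simp [D.rherm.add_left, D.rherm.add_right, hr₁, hr₂, hτ, D.rB_symm_zero hτ]⟩
        · refine ⟨D.rconj (δ / D.rB r₁ r₂), (map_ne_zero D.rconj).mpr (div_ne_zero hδ0 hτ), ?_⟩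
          simp only [D.rherm.add_left, D.rherm.add_right, D.rherm.smul_left, D.rherm.smul_right, hr₁, hr₂,
            D.rherm.invol, mul_zero, add_zero, zero_add]
          rw [← D.rherm.symm r₁ r₂, ← map_mul, div_mul_cancel₀ _ hτ]
          linear_combination hδ
      refine ⟨_, hk, flip ?_, flip ?_⟩
      · rw [D.rherm.add_left, D.rherm.smul_left, h1, c2, mul_zero, add_zero]; exact one_ne_zero
      · rw [D.rherm.add_left, D.rherm.smul_left, h2, c1, mul_one, zero_add]; exact hk0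
    obtain ⟨a1, -⟩ := hpair u x hu hx hux
    obtain ⟨b1, b2⟩ := hpair e x he hx hex
    refine ⟨?_, left_ne_zero_of_mul b2⟩
    rw [← mul_div_mul_right (l u hu) (l e he) (right_ne_zero_of_mul b2)]
    exact K.div_mem a1 b1
  have hle := (key e he he0).2
  let S : Submodule K Ks :=
    { carrier := {u | ∃ v : Ks, g (ρR u) = l e he • ρR v}
      add_mem' := by
        rintro a b ⟨va, ha⟩ ⟨vb, hb⟩
        exact ⟨va + vb, by rw [ratVec_add, map_add, ha, hb, ratVec_add, smul_add]⟩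
      zero_mem' := ⟨0, by rw [ratVec_zero, map_zero, smul_zero]⟩
      smul_mem' := by
        rintro k a ⟨va, ha⟩
        exact ⟨k • va, by rw [ratVec_smul, map_smul, ha, ratVec_smul, smul_comm]⟩ }
  refine hgK ⟨l e he, hle, fun u => D.iso_perp_mem (![] : Fin 0 → Ks) (by omega) S (fun x _ hx => ?_)
    (fun i => i.elim0)⟩
  by_cases hx0 : x = 0
  · subst hx0; exact S.zero_mem
  refine ⟨(⟨_, (key x hx hx0).1⟩ : K) • v x hx, ?_⟩
  rw [hlv x hx, ratVec_smul, smul_smul, mul_div_cancel₀ _ hle]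

theorem transvection_mem_of_not_stab (hO : Over D M) (hn : 6 ≤ n) (r : ℕ) (hr : r.Prime)
    (hcard : Nat.card F = Nat.card K ^ r) {g : Vs ≃ₗ[F] Vs} (hg : g ∈ M)
    (hgK : ¬ ∃ l : F, l ≠ 0 ∧ ∀ u : Ks, ∃ v : Ks, g (ρR u) = l • ρR v) {v : Vs} (hv : B v v = 0)
    {d : F} (hd : d + σ d = 0) : HasEich B M v 0 d := by
  obtain ⟨w, hw, hirr⟩ := D.exists_centre_not_line hO (by omega) hg hgK
  obtain ⟨z, hz, hzirr, t, ht, ht0, htz⟩ : ∃ z, Centre σ B K M z ∧ ¬ IsRatLine K P z ∧
      ∃ t : Ks, D.rB t t = 0 ∧ t ≠ 0 ∧ B (ρR t) z = 0 := by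
    by_cases hperp : ∃ t : Ks, D.rB t t = 0 ∧ t ≠ 0 ∧ B (ρR t) w = 0
    · exact ⟨w, hw, hirr, hperp⟩
    · push Not at hperp
      exact D.exists_centre_caseA hO hn hw hperp
  obtain ⟨c, hc, hgood⟩ := D.exists_good_notMem hO hn hz hzirr ht ht0 htz
  have hall := D.good_all hO hn r hr hcard hc hgood
  exact D.transvection_mem hO (by omega) hall
    (fun _ hb0 hb _ hd => D.hasEich_transvection_rat hn hall hb0 hb hd) hv hd

/-- A transvection with scalar outside `K` moves the rational lines. -/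
theorem not_stab_transvection (hn : 4 ≤ n) {g : Vs ≃ₗ[F] Vs} {b : Ks} (hb : D.rB b b = 0) (hb0 : b ≠ 0)
    {d : F} (hd : d ∉ K) (hg : ∀ x, g x = x + (d * B x (ρR b)) • ρR b) :
    ¬ ∃ l : F, l ≠ 0 ∧ ∀ u : Ks, ∃ v : Ks, g (ρR u) = l • ρR v := by
  rintro ⟨l, -, hl⟩
  obtain ⟨x, -, hxb⟩ := D.exists_partner hb0 hb
  have hbx : B (ρR b) (ρR x) = 1 := by rw [← D.herm.symm, D.B_rat_one hxb, map_one]
  obtain ⟨v₁, hv₁⟩ := hl b
  obtain ⟨v₂, hv₂⟩ := hl x
  rw [hg, D.B_rat_zero hb, mul_zero, zero_smul, add_zero] at hv₁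
  rw [hg, D.B_rat_one hxb, mul_one] at hv₂
  have h1 := congrArg (fun z => B z (ρR x)) hv₁
  simp only [hbx, D.herm.smul_left] at h1
  have hlK : l ∈ K := by
    rw [eq_inv_of_mul_eq_one_left h1.symm]
    exact K.inv_mem (D.mem v₁ x)
  have h2 := congrArg (fun z => B z (ρR x)) hv₂
  simp only [D.herm.add_left, D.herm.smul_left, hbx, mul_one] at h2
  apply hd
  rw [show d = l * B (ρR v₂) (ρR x) - B (ρR x) (ρR x) by linear_combination h2]
  exact K.sub_mem (K.mul_mem hlK (D.mem v₂ x)) (D.mem x x)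

end UData

end Cfsg.Agent.Lib.SUSubfield
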