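import Cfsg.Agent.Lib.SubfieldMax.Rational
import Cfsg.Agent.Lib.Classical.UnitaryEichler
import Cfsg.Agent.Lib.Forms.Families
import Cfsg.Agent.Lib.Forms.Bridge

/-!
A rational structure of a Hermitian space: the induced Hermitian form and its geometry.
-/

set_option autoImplicit false

namespace Cfsg.Agent.Lib.SUSubfield

open Matrix Cfsg.Agent.Lib Cfsg.Agent.Lib.SubfieldMax

variable {F : Type*} [Field F] {n : ℕ}

/-- A rational structure for a Hermitian space on which the conjugation stays non-trivial. -/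
structure UData (σ : F →+* F) (B : (Fin n → F) → (Fin n → F) → F) (K : Subfield F) (P : GL (Fin n) F) : Prop where
  herm : Classical.HermSpace σ B
  stab : ∀ a ∈ K, σ a ∈ K
  mem : ∀ u v : Fin n → K, B (ratVec K P u) (ratVec K P v) ∈ K
  nontrivK : ∃ a ∈ K, σ a ≠ a

variable {σ : F →+* F} {B : (Fin n → F) → (Fin n → F) → F} {K : Subfield F} {P : GL (Fin n) F}

namespace UData

/-- The conjugation of `K`. -/
def rconj (D : UData σ B K P) : K →+* K := (σ.comp K.subtype).codRestrict K fun a => D.stab a a.2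

/-- The form on rational coordinates. -/
def rB (D : UData σ B K P) (u v : Fin n → K) : K := ⟨B (ratVec K P u) (ratVec K P v), D.mem u v⟩

theorem coe_rB (D : UData σ B K P) (u v : Fin n → K) : (D.rB u v : F) = B (ratVec K P u) (ratVec K P v) := rfl

theorem coe_rconj (D : UData σ B K P) (a : K) : (D.rconj a : F) = σ a := rfl

theorem B_rat_eq (D : UData σ B K P) {u v : Fin n → K} {a : K} (h : D.rB u v = a) :
    B (ratVec K P u) (ratVec K P v) = a := by rw [← h]; rfl

theorem B_rat_zero (D : UData σ B K P) {u v : Fin n → K} (h : D.rB u v = 0) :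
    B (ratVec K P u) (ratVec K P v) = 0 := by rw [D.B_rat_eq h]; rfl

theorem B_rat_one (D : UData σ B K P) {u v : Fin n → K} (h : D.rB u v = 1) :
    B (ratVec K P u) (ratVec K P v) = 1 := by rw [D.B_rat_eq h]; rfl

/-- A vector is determined by its products with the rational vectors. -/
theorem eq_zero_of_rat (D : UData σ B K P) {z : Fin n → F} (h : ∀ u : Fin n → K, B (ratVec K P u) z = 0) :
    z = 0 := by
  let L : (Fin n → F) →ₗ[F] F :=
    { toFun := fun x => B x z
      map_add' := fun x y => D.herm.add_left x y z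
      map_smul' := fun c x => D.herm.smul_left c x z }
  have hL : L = 0 := ext_ratVec (K := K) (P := P) h
  refine D.herm.nondeg z fun w => ?_
  have h1 : B w z = 0 := LinearMap.congr_fun hL w
  rw [← D.herm.symm, h1, map_zero]

theorem rherm (D : UData σ B K P) : Classical.HermSpace D.rconj D.rB := by
  refine ⟨fun a => Subtype.ext (D.herm.invol a), fun e => ?_, fun u v w => Subtype.ext ?_,
    fun c u w => Subtype.ext ?_, fun u v => Subtype.ext (D.herm.symm _ _), fun z hz => ?_⟩
  · obtain ⟨a, ha, hne⟩ := D.nontrivK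
    exact hne (congrArg Subtype.val (RingHom.congr_fun e ⟨a, ha⟩))
  · show B (ratVec K P (u + v)) _ = _
    rw [ratVec_add, D.herm.add_left]; rfl
  · show B (ratVec K P (c • u)) _ = _
    rw [ratVec_smul, D.herm.smul_left]; rfl
  · rw [← ratVec_eq_zero (P := P)]
    refine D.eq_zero_of_rat fun u => ?_
    rw [← D.herm.symm, D.B_rat_zero (hz u), map_zero]

theorem rB_symm_zero (D : UData σ B K P) {u v : Fin n → K} (h : D.rB u v = 0) : D.rB v u = 0 := by
  rw [← D.rherm.symm, h, map_zero]

/-- The form on rational coordinates as a sesquilinear map, arguments swapped. -/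
def rSesq (D : UData σ B K P) : (Fin n → K) →ₛₗ[D.rconj] (Fin n → K) →ₗ[K] K :=
  LinearMap.mk₂'ₛₗ D.rconj (RingHom.id K) (fun x y => D.rB y x)
    (fun x x' y => D.rherm.add_right y x x')
    (fun c x y => by rw [D.rherm.smul_right]; rfl)
    (fun x y y' => D.rherm.add_left y y' x)
    (fun c x y => by rw [D.rherm.smul_left]; rfl)

theorem rSesq_apply (D : UData σ B K P) (x y : Fin n → K) : D.rSesq x y = D.rB y x := rfl

theorem rgood (D : UData σ B K P) : Forms.IsGoodForm D.rSesq 1 where
  eps_sq := by simp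
  invol := D.rherm.invol
  herm x y := by rw [one_mul, rSesq_apply, rSesq_apply, D.rherm.symm]
  nondeg x hx := D.rherm.nondeg x fun w => D.rB_symm_zero (hx w)
  trace a := by
    obtain ⟨c, hc⟩ := D.rherm.exists_fill a
    exact ⟨c, by rw [rSesq_apply]; linear_combination hc⟩

theorem rsymm (D : UData σ B K P) : D.rSesq.IsSymm :=
  ⟨fun x y => by rw [rSesq_apply, rSesq_apply, D.rherm.symm]⟩

/-- The products with an independent family are arbitrary. -/
theorem exists_dual (D : UData σ B K P) {k : ℕ} {u : Fin k → (Fin n → K)} (hu : LinearIndependent K u)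
    (c : Fin k → K) : ∃ r, ∀ i, D.rB r (u i) = c i := by
  obtain ⟨φ, hφ⟩ : ∃ φ : (Fin n → K) →ₗ[K] K, ∀ i, φ (u i) = D.rconj (c i) := by
    let b := Module.Basis.span hu
    obtain ⟨φ, hφ⟩ := LinearMap.exists_extend (b.constr K fun i => D.rconj (c i))
    refine ⟨φ, fun i => ?_⟩
    have h1 := LinearMap.congr_fun hφ (b i)
    rw [Module.Basis.constr_basis] at h1
    simpa [b] using h1
  obtain ⟨r, hr⟩ := D.rgood.exists_vec φ
  refine ⟨r, fun i => ?_⟩
  have h1 := hr (u i)
  rw [rSesq_apply, hφ] at h1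
  rw [← D.rherm.symm, h1, D.rherm.invol]

theorem mem_rperp (D : UData σ B K P) {k : ℕ} {u : Fin k → (Fin n → K)} {z : Fin n → K} :
    z ∈ Forms.perp D.rSesq (Submodule.span K (Set.range u)) ↔ ∀ i, D.rB z (u i) = 0 := by
  rw [Forms.mem_perp_span]
  exact ⟨fun h i => h _ ⟨i, rfl⟩, by rintro h _ ⟨i, rfl⟩; exact h i⟩

theorem finrank_rperp (D : UData σ B K P) {k : ℕ} (u : Fin k → (Fin n → K)) :
    n ≤ Module.finrank K (Forms.perp D.rSesq (Submodule.span K (Set.range u))) + k := by
  have h1 := D.rgood.finrank_add_finrank_perp (Submodule.span K (Set.range u))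
  have h2 : Module.finrank K (Submodule.span K (Set.range u)) ≤ k := by
    simpa [Set.finrank] using finrank_range_le_card (R := K) u
  rw [Module.finrank_fintype_fun_eq_card, Fintype.card_fin] at h1
  omega

theorem exists_perp_notMem (D : UData σ B K P) {k : ℕ} (u : Fin k → (Fin n → K))
    (S : Submodule K (Fin n → K)) (h : Module.finrank K S + k < n) :
    ∃ z, (∀ i, D.rB z (u i) = 0) ∧ z ∉ S := by
  by_contra hno
  push Not at hno
  have h1 := D.finrank_rperp u
  have h2 := Submodule.finrank_mono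
    (show Forms.perp D.rSesq (Submodule.span K (Set.range u)) ≤ S from fun z hz => hno z (D.mem_rperp.mp hz))
  omega

theorem exists_aniso_perp (D : UData σ B K P) {k : ℕ} (u : Fin k → (Fin n → K)) (h : 2 * k < n) :
    ∃ x, (∀ i, D.rB x (u i) = 0) ∧ D.rB x x ≠ 0 := by
  by_contra hno
  push Not at hno
  set W := Forms.perp D.rSesq (Submodule.span K (Set.range u)) with hW
  have hiso := Forms.hermitian_polarization D.rherm.nontriv D.rsymm W fun x hx => hno x (D.mem_rperp.mp hx)
  have h1 := D.rgood.finrank_add_finrank_perp W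
  rw [Module.finrank_fintype_fun_eq_card, Fintype.card_fin] at h1
  have h2 := Submodule.finrank_mono (show W ≤ Forms.perp D.rSesq W from fun x hx y hy => hiso y hy x hx)
  have h3 := D.finrank_rperp u
  rw [← hW] at h3
  omega

theorem exists_aniso_perp_rad (D : UData σ B K P) {k : ℕ} (u : Fin k → (Fin n → K)) {R : ℕ}
    (hR : Module.finrank K ↥(Submodule.span K (Set.range u) ⊓
      Forms.perp D.rSesq (Submodule.span K (Set.range u))) ≤ R) (h : k + R < n) :
    ∃ x, (∀ i, D.rB x (u i) = 0) ∧ D.rB x x ≠ 0 := by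
  by_contra hno
  push Not at hno
  set W := Forms.perp D.rSesq (Submodule.span K (Set.range u)) with hW
  have hiso := Forms.hermitian_polarization D.rherm.nontriv D.rsymm W fun x hx => hno x (D.mem_rperp.mp hx)
  have hle : W ≤ Submodule.span K (Set.range u) := by
    rw [← D.rgood.perp_perp (Submodule.span K (Set.range u)), ← hW]
    exact fun x hx y hy => hiso y hy x hx
  rw [inf_eq_right.mpr hle] at hR
  have h3 := D.finrank_rperp u
  rw [← hW] at h3
  omega

theorem exists_aniso_perp_cons (D : UData σ B K P) {k : ℕ} (u : Fin k → (Fin n → K)) {R : ℕ}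
    (hR : Module.finrank K ↥(Submodule.span K (Set.range u) ⊓
      Forms.perp D.rSesq (Submodule.span K (Set.range u))) ≤ R) (h : k + R + 1 < n) {x : Fin n → K}
    (hx : ∀ i, D.rB x (u i) = 0) (hxx : D.rB x x ≠ 0) :
    ∃ y, (∀ i, D.rB y ((Fin.cons x u : Fin (k + 1) → (Fin n → K)) i) = 0) ∧ D.rB y y ≠ 0 := by
  refine D.exists_aniso_perp_rad _ (R := R) ((Submodule.finrank_mono ?_).trans hR) (by omega)
  rintro z ⟨hz, hz'⟩
  have hz0 := D.mem_rperp.mp hz'
  rw [SetLike.mem_coe, Fin.range_cons, Submodule.mem_span_insert] at hz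
  obtain ⟨c, s, hs, rfl⟩ := hz
  have hsx : D.rB s x = 0 := by
    exact D.rB_symm_zero ((D.mem_rperp.mpr hx) s hs)
  have hc := hz0 0
  rw [Fin.cons_zero, D.rherm.add_left, D.rherm.smul_left, hsx, add_zero, mul_eq_zero] at hc
  rw [hc.resolve_right hxx, zero_smul, zero_add] at hz0 ⊢
  exact ⟨hs, D.mem_rperp.mpr fun i => by simpa using hz0 i.succ⟩

theorem exists_hyp_perp [Finite F] (D : UData σ B K P) {k : ℕ} (u : Fin k → (Fin n → K)) {R : ℕ}
    (hR : Module.finrank K ↥(Submodule.span K (Set.range u) ⊓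
      Forms.perp D.rSesq (Submodule.span K (Set.range u))) ≤ R) (h : k + R + 1 < n) :
    ∃ e f, (∀ i, D.rB e (u i) = 0) ∧ (∀ i, D.rB f (u i) = 0) ∧ D.rB e e = 0 ∧ D.rB f e ≠ 0 := by
  obtain ⟨x, hx, hxx⟩ := D.exists_aniso_perp_rad u hR (by omega)
  obtain ⟨y, hy, hyy⟩ := D.exists_aniso_perp_cons u hR h hx hxx
  have hyx : D.rB y x = 0 := hy 0
  obtain ⟨l, hl⟩ := Forms.exists_norm_eq (σ := D.rconj) D.rherm.nontriv D.rherm.invol
    (c := -(D.rB x x) / D.rB y y) (by rw [map_div₀, map_neg, D.rherm.symm, D.rherm.symm])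
  have hl' : l * D.rconj l * D.rB y y + D.rB x x = 0 := by
    rw [hl, div_mul_cancel₀ _ hyy, neg_add_cancel]
  refine ⟨x + l • y, x, fun i => ?_, hx, ?_, ?_⟩
  · have := hy i.succ
    rw [Fin.cons_succ] at this
    rw [D.rherm.add_left, D.rherm.smul_left, hx, this, mul_zero, add_zero]
  · simp only [D.rherm.add_left, D.rherm.add_right, D.rherm.smul_left, D.rherm.smul_right, hyx,
      D.rB_symm_zero hyx]
    linear_combination hl'
  · simpa [D.rherm.add_right, D.rherm.smul_right, D.rB_symm_zero hyx] using hxx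

/-- Making a vector isotropic along an isotropic vector it pairs with. -/
theorem exists_iso_adjust (D : UData σ B K P) {e f : Fin n → K} (he : D.rB e e = 0) (hfe : D.rB f e ≠ 0) :
    ∃ c : K, D.rB (f + c • e) (f + c • e) = 0 := by
  obtain ⟨t, ht⟩ := D.rherm.exists_fill f
  refine ⟨t / D.rB e f, ?_⟩
  have hef : D.rB e f ≠ 0 := fun e0 => hfe (D.rB_symm_zero e0)
  have k1 : t / D.rB e f * D.rB e f = t := div_mul_cancel₀ _ hef
  have k2 : D.rconj (t / D.rB e f) * D.rB f e = D.rconj t := by
    rw [← D.rherm.symm e f, ← map_mul, k1]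
  simp only [D.rherm.add_left, D.rherm.add_right, D.rherm.smul_left, D.rherm.smul_right, he]
  linear_combination k1 + k2 + ht

/-- The isotropic vectors of a perpendicular space span it. -/
theorem iso_perp_mem_rad [Finite F] (D : UData σ B K P) {k : ℕ} (u : Fin k → (Fin n → K)) {R : ℕ}
    (hR : Module.finrank K ↥(Submodule.span K (Set.range u) ⊓
      Forms.perp D.rSesq (Submodule.span K (Set.range u))) ≤ R) (h : k + R + 1 < n)
    (S : Submodule K (Fin n → K)) (hS : ∀ x, (∀ i, D.rB x (u i) = 0) → D.rB x x = 0 → x ∈ S)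
    {x : Fin n → K} (hx : ∀ i, D.rB x (u i) = 0) : x ∈ S := by
  obtain ⟨e, f, he0, hf0, he, hfe⟩ := D.exists_hyp_perp u hR h
  have heS := hS e he0 he
  have hline : ∀ v, (∀ i, D.rB v (u i) = 0) → D.rB v e ≠ 0 → v ∈ S := by
    intro v hv hve
    obtain ⟨c, hc⟩ := D.exists_iso_adjust he hve
    have hm := hS _ (fun i => by rw [D.rherm.add_left, D.rherm.smul_left, hv, he0, mul_zero, add_zero]) hc
    simpa using sub_mem hm (S.smul_mem c heS)
  by_cases hxe : D.rB x e = 0
  · have h1 := hline (x + f) (fun i => by rw [D.rherm.add_left, hx, hf0, add_zero])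
      (by rw [D.rherm.add_left, hxe, zero_add]; exact hfe)
    simpa using sub_mem h1 (hline f hf0 hfe)
  · exact hline x hx hxe

/-- The isotropic vectors of the perpendicular of a short family span it. -/
theorem iso_perp_mem [Finite F] (D : UData σ B K P) {k : ℕ} (u : Fin k → (Fin n → K)) (h : 2 * k + 1 < n)
    (S : Submodule K (Fin n → K)) (hS : ∀ x, (∀ i, D.rB x (u i) = 0) → D.rB x x = 0 → x ∈ S)
    {x : Fin n → K} (hx : ∀ i, D.rB x (u i) = 0) : x ∈ S :=
  D.iso_perp_mem_rad u (R := k) ((Submodule.finrank_mono inf_le_left).trans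
    (by simpa [Set.finrank] using finrank_range_le_card (R := K) u)) (by omega) S hS hx

theorem exists_iso_perp_notMem_rad [Finite F] (D : UData σ B K P) {k : ℕ} (u : Fin k → (Fin n → K))
    (S : Submodule K (Fin n → K)) {R : ℕ}
    (hR : Module.finrank K ↥(Submodule.span K (Set.range u) ⊓
      Forms.perp D.rSesq (Submodule.span K (Set.range u))) ≤ R) (h : k + R + 1 < n)
    (h' : Module.finrank K S + k < n) :
    ∃ x, (∀ i, D.rB x (u i) = 0) ∧ D.rB x x = 0 ∧ x ∉ S := by
  obtain ⟨z, hz, hzS⟩ := D.exists_perp_notMem u S h'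
  by_contra hno
  push Not at hno
  exact hzS (D.iso_perp_mem_rad u hR h S hno hz)

theorem exists_iso_perp_notMem [Finite F] (D : UData σ B K P) {k : ℕ} (u : Fin k → (Fin n → K))
    (S : Submodule K (Fin n → K)) (h : 2 * k + 1 < n) (h' : Module.finrank K S + k < n) :
    ∃ x, (∀ i, D.rB x (u i) = 0) ∧ D.rB x x = 0 ∧ x ∉ S := by
  obtain ⟨z, hz, hzS⟩ := D.exists_perp_notMem u S h'
  by_contra hno
  push Not at hno
  exact hzS (D.iso_perp_mem u h S hno hz)

theorem ne_zero_of_notMem {S : Submodule K (Fin n → K)} {x : Fin n → K} (h : x ∉ S) : x ≠ 0 :=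
  fun e => h (e ▸ S.zero_mem)

theorem indep_two {a b : Fin n → K} (ha : a ≠ 0) (hb : b ∉ Submodule.span K {a}) :
    LinearIndependent K ![a, b] := by
  rw [LinearIndependent.pair_iff' ha]
  exact fun t e => hb (Submodule.mem_span_singleton.mpr ⟨t, e⟩)

theorem indep_pair_of_rB (D : UData σ B K P) {a b r : Fin n → K} (hb : b ≠ 0) (ha : D.rB a r ≠ 0)
    (hbr : D.rB b r = 0) : LinearIndependent K ![a, b] := by
  rw [LinearIndependent.pair_iff]
  intro s t e
  have h1 := congrArg (fun z => D.rB z r) e
  simp only [D.rherm.add_left, D.rherm.smul_left, hbr, mul_zero, add_zero, D.rherm.zero_left] at h1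
  have hs := (mul_eq_zero.mp h1).resolve_right ha
  refine ⟨hs, ?_⟩
  rw [hs, zero_smul, zero_add] at e
  exact (smul_eq_zero.mp e).resolve_right hb

/-- A partner of an isotropic vector in the perpendicular of an isotropic family. -/
theorem exists_partner (D : UData σ B K P) {s : Fin n → K} (hs0 : s ≠ 0) (hs : D.rB s s = 0) :
    ∃ r, D.rB r r = 0 ∧ D.rB r s = 1 := by
  obtain ⟨r, hr⟩ := D.exists_dual (u := ![s]) (linearIndependent_unique_iff.mpr (by simpa using hs0)) ![1]
  have hrs : D.rB r s = 1 := hr 0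
  obtain ⟨c, hc⟩ := D.exists_iso_adjust hs (by rw [hrs]; exact one_ne_zero)
  exact ⟨r + c • s, hc, by rw [D.rherm.add_left, D.rherm.smul_left, hs, hrs, mul_zero, add_zero]⟩

theorem exists_partner_perp (D : UData σ B K P) {t s : Fin n → K} (hli : LinearIndependent K ![t, s])
    (hs : D.rB s s = 0) (hst : D.rB s t = 0) :
    ∃ r, D.rB r r = 0 ∧ D.rB r s = 1 ∧ D.rB r t = 0 := by
  obtain ⟨r, hr⟩ := D.exists_dual hli ![0, 1]
  have hrs : D.rB r s = 1 := hr 1
  have hrt : D.rB r t = 0 := hr 0
  obtain ⟨c, hc⟩ := D.exists_iso_adjust hs (by rw [hrs]; exact one_ne_zero)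
  exact ⟨r + c • s, hc, by rw [D.rherm.add_left, D.rherm.smul_left, hs, hrs, mul_zero, add_zero],
    by rw [D.rherm.add_left, D.rherm.smul_left, hst, hrt, mul_zero, add_zero]⟩

/-- The radical of the span of an isotropic vector and a hyperbolic pair orthogonal to it is a line. -/
theorem finrank_rad_triple (D : UData σ B K P) {a t t' : Fin n → K} (ht : D.rB t t = 0) (hat : D.rB a t = 0)
    (hat' : D.rB a t' = 0) (_ha : D.rB a a = 0) (htt : D.rB t' t = 1) :
    Module.finrank K ↥(Submodule.span K (Set.range ![a, t, t']) ⊓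
      Forms.perp D.rSesq (Submodule.span K (Set.range ![a, t, t']))) ≤ 1 := by
  have hle : Submodule.span K (Set.range ![a, t, t']) ⊓ Forms.perp D.rSesq (Submodule.span K (Set.range ![a, t, t']))
      ≤ Submodule.span K {a} := by
    rintro z ⟨hz, hz'⟩
    obtain ⟨c, rfl⟩ := (Submodule.mem_span_range_iff_exists_fun K).mp hz
    have h := D.mem_rperp.mp hz'
    have h1 := h 1
    have h2 := h 2
    simp [Fin.sum_univ_three, D.rherm.add_left, D.rherm.smul_left, ht, hat, hat', htt] at h1 h2
    have htt' : D.rB t t' = 1 := by rw [← D.rherm.symm, htt, map_one]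
    rw [h1, htt'] at h2
    simp at h2
    simp [Fin.sum_univ_three, h1, h2, Submodule.mem_span_singleton]
  refine (Submodule.finrank_mono hle).trans ?_
  exact (finrank_span_le_card _).trans (by simp)

/-- The determinant of a rational isometry has norm one. -/
theorem det_mul_rconj (D : UData σ B K P) (g : (Fin n → K) ≃ₗ[K] (Fin n → K))
    (hg : ∀ u v, D.rB (g u) (g v) = D.rB u v) :
    LinearMap.det g.toLinearMap * D.rconj (LinearMap.det g.toLinearMap) = 1 := by
  set G : Matrix (Fin n) (Fin n) K := Matrix.of fun i j => D.rB (Pi.single i 1) (Pi.single j 1) with hG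
  set A : Matrix (Fin n) (Fin n) K := LinearMap.toMatrix' g.toLinearMap with hA
  have hsum : ∀ (c : Fin n → K) (v : Fin n → K), D.rB c v = ∑ k, c k * D.rB (Pi.single k 1) v := fun c v => by
    conv_lhs => rw [← Finset.univ_sum_single c]
    rw [← rSesq_apply, map_sum]
    refine Finset.sum_congr rfl fun k _ => ?_
    rw [show (Pi.single k (c k) : Fin n → K) = c k • Pi.single k 1 by rw [← Pi.single_smul']; simp, map_smul,
      rSesq_apply, smul_eq_mul]
  have hsum' : ∀ (c : Fin n → K) (u : Fin n → K), D.rB u c = ∑ l, D.rB u (Pi.single l 1) * D.rconj (c l) :=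
    fun c u => by
      rw [← D.rherm.symm c u, hsum, map_sum]
      exact Finset.sum_congr rfl fun k _ => by rw [map_mul, D.rherm.symm, mul_comm]
  have hdet : G.det ≠ 0 := by
    intro h0
    obtain ⟨v, hv0, hv⟩ := Matrix.exists_vecMul_eq_zero_iff.mpr h0
    refine hv0 (D.rherm.nondeg v fun w => ?_)
    rw [hsum']
    refine Finset.sum_eq_zero fun l _ => ?_
    have h1 : (v ᵥ* G) l = 0 := congrFun hv l
    rw [show D.rB v (Pi.single l 1) = (v ᵥ* G) l from hsum v _, h1, zero_mul]
  have he : A.transpose * G * A.map D.rconj = G := by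
    refine Matrix.ext fun i j => ?_
    show _ = D.rB (Pi.single i 1) (Pi.single j 1)
    rw [← hg, hsum', Matrix.mul_apply]
    refine Finset.sum_congr rfl fun l _ => ?_
    rw [hsum, Matrix.mul_apply, Matrix.map_apply, Finset.sum_mul]
    have hAk : ∀ k i, A k i = g (Pi.single i 1) k := fun k i => by rw [hA, LinearMap.toMatrix'_apply]; rfl
    rw [Finset.sum_mul]
    refine Finset.sum_congr rfl fun k _ => ?_
    rw [Matrix.transpose_apply, hAk, hAk, hG, Matrix.of_apply]
  have h1 := congrArg Matrix.det he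
  rw [Matrix.det_mul, Matrix.det_mul, Matrix.det_transpose,
    show A.map D.rconj = D.rconj.mapMatrix A from rfl, ← RingHom.map_det, hA, LinearMap.det_toMatrix'] at h1
  exact mul_right_cancel₀ hdet (by linear_combination h1)

/-- Extension of a rational isometry of determinant one. -/
theorem exists_extend (D : UData σ B K P) (g : (Fin n → K) ≃ₗ[K] (Fin n → K))
    (hg : ∀ u v, D.rB (g u) (g v) = D.rB u v) (hd : LinearMap.det g.toLinearMap = 1) :
    ∃ e : (Fin n → F) ≃ₗ[F] (Fin n → F), e ∈ Classical.biIsoGroup B ∧ LinearEquiv.det e = 1 ∧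
      ∀ u, e (ratVec K P u) = ratVec K P (g u) := by
  set A := (Forms.glEquiv (Fin n) K).symm g with hAdef
  set h := MulAut.conj P (Matrix.GeneralLinearGroup.map (K.subtype : K →+* F) A) with hh
  set e := Forms.glEquiv (Fin n) F h with he
  have hAm : (A : Matrix (Fin n) (Fin n) K) = LinearMap.toMatrix' g.toLinearMap := by
    refine Matrix.ext_iff_mulVec.mpr fun v => ?_
    rw [LinearMap.toMatrix'_mulVec, hAdef, Forms.glEquiv_symm_mulVec]
    rfl
  have hact : ∀ u, e (ratVec K P u) = ratVec K P (g u) := by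
    intro u
    show (h : Matrix (Fin n) (Fin n) F) *ᵥ ratVec K P u = _
    rw [hh, MulAut.conj_apply, ratVec, ratVec, Units.val_mul, Units.val_mul, mulVec_mulVec,
      Units.inv_mul_cancel_right, ← mulVec_mulVec, ← Forms.glEquiv_symm_mulVec g u]
    congr 1
    funext i
    show ((A : Matrix (Fin n) (Fin n) K).map K.subtype *ᵥ fun i => K.subtype (u i)) i
      = K.subtype (((A : Matrix (Fin n) (Fin n) K) *ᵥ u) i)
    rw [RingHom.map_mulVec]
    rfl
  refine ⟨e, ?_, ?_, hact⟩
  · have half : ∀ (x : Fin n → F) (v : Fin n → K), B (e x) (e (ratVec K P v)) = B x (ratVec K P v) := by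
      intro x v
      let L₁ : (Fin n → F) →ₗ[F] F :=
        { toFun := fun x => B (e x) (e (ratVec K P v))
          map_add' := fun x y => by rw [map_add, D.herm.add_left]
          map_smul' := fun c x => by rw [map_smul, D.herm.smul_left]; rfl }
      let L₂ : (Fin n → F) →ₗ[F] F :=
        { toFun := fun x => B x (ratVec K P v)
          map_add' := fun x y => D.herm.add_left x y _
          map_smul' := fun c x => D.herm.smul_left c x _ }
      have : L₁ = L₂ := ext_ratVec (K := K) (P := P) fun u => by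
        show B (e (ratVec K P u)) (e (ratVec K P v)) = B (ratVec K P u) (ratVec K P v)
        rw [hact, hact, ← coe_rB D, ← coe_rB D, hg]
      exact LinearMap.congr_fun this x
    intro x y
    let L₁ : (Fin n → F) →ₗ[F] F :=
      { toFun := fun y => B (e y) (e x)
        map_add' := fun a b => by rw [map_add, D.herm.add_left]
        map_smul' := fun c a => by rw [map_smul, D.herm.smul_left]; rfl }
    let L₂ : (Fin n → F) →ₗ[F] F :=
      { toFun := fun y => B y x
        map_add' := fun a b => D.herm.add_left a b _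
        map_smul' := fun c a => D.herm.smul_left c a _ }
    have : L₁ = L₂ := ext_ratVec (K := K) (P := P) fun v => by
      show B (e (ratVec K P v)) (e x) = B (ratVec K P v) x
      rw [← D.herm.symm, half, D.herm.symm]
    have h1 : B (e y) (e x) = B y x := LinearMap.congr_fun this y
    rw [← D.herm.symm, h1, D.herm.symm]
  · refine Units.ext ?_
    rw [LinearEquiv.coe_det, Units.val_one,
      show e.toLinearMap = Matrix.toLin' (h : Matrix (Fin n) (Fin n) F) from
        LinearMap.ext fun v => by rw [Matrix.toLin'_apply]; rfl,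
      LinearMap.det_toLin', hh, MulAut.conj_apply, Units.val_mul, Units.val_mul, Matrix.det_mul, Matrix.det_mul,
      mul_right_comm, ← Matrix.det_mul, Units.mul_inv, Matrix.det_one, one_mul]
    show ((A : Matrix (Fin n) (Fin n) K).map K.subtype).det = 1
    rw [← RingHom.mapMatrix_apply, ← RingHom.map_det, hAm, LinearMap.det_toMatrix', hd, map_one]

/-- The rational special unitary group is transitive on small families with equal Gram matrices. -/
theorem exists_rational_map (D : UData σ B K P) {k : ℕ} (hk : 2 * k < n) {v w : Fin k → (Fin n → K)}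
    (hv : LinearIndependent K v) (hw : LinearIndependent K w)
    (hgram : ∀ i j, D.rB (v i) (v j) = D.rB (w i) (w j)) :
    ∃ e : (Fin n → F) ≃ₗ[F] (Fin n → F), e ∈ Classical.biIsoGroup B ∧ LinearEquiv.det e = 1 ∧
      (∀ u, ∃ u', e (ratVec K P u) = ratVec K P u') ∧ ∀ i, e (ratVec K P (v i)) = ratVec K P (w i) := by
  obtain ⟨g, hg, hgv⟩ := D.rgood.witt_family v w hv hw fun i j => hgram j i
  have hg' : ∀ u v, D.rB (g u) (g v) = D.rB u v := fun u v => hg v u
  obtain ⟨x, hxw, hxx⟩ := D.exists_aniso_perp w hk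
  set d := LinearMap.det g.toLinearMap with hd
  have hdd := D.det_mul_rconj g hg'
  rw [← hd] at hdd
  set c := (D.rconj d - 1) / D.rB x x with hc
  let T : (Fin n → K) →ₗ[K] (Fin n → K) := LinearMap.transvection (c • D.rSesq x) x
  have hT : ∀ y, T y = y + (c * D.rB y x) • x := fun y => by
    simp [T, LinearMap.transvection.apply, rSesq_apply]
  have hTiso : ∀ u v, D.rB (T u) (T v) = D.rB u v := by
    intro u v
    simp only [hT, D.rherm.add_left, D.rherm.add_right, D.rherm.smul_left, D.rherm.smul_right, map_mul,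
      D.rherm.symm]
    have hcc : c + D.rconj c + c * D.rconj c * D.rB x x = 0 := by
      rw [hc, map_div₀, map_sub, map_one, D.rherm.invol, D.rherm.symm]
      field_simp
      linear_combination hdd
    linear_combination (D.rB u x * D.rB x v) * hcc
  obtain ⟨T', hT', -⟩ := D.rgood.exists_equiv_of_preserves T fun u v => hTiso v u
  have hdetT : LinearMap.det T = D.rconj d := by
    show LinearMap.det (LinearMap.transvection (c • D.rSesq x) x) = _
    rw [LinearMap.transvection.det, LinearMap.smul_apply, rSesq_apply, smul_eq_mul, hc,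
      div_mul_cancel₀ _ hxx]
    ring
  obtain ⟨e, he, hed, heq⟩ := D.exists_extend (g.trans T')
    (fun u v => by
      show D.rB (T' (g u)) (T' (g v)) = _
      rw [hT', hT', hTiso, hg'])
    (by
      have e1 : (g.trans T').toLinearMap = T ∘ₗ g.toLinearMap := LinearMap.ext fun z => hT' (g z)
      rw [e1, LinearMap.det_comp, hdetT, ← hd, mul_comm]
      exact hdd)
  refine ⟨e, he, hed, fun u => ⟨_, heq u⟩, fun i => ?_⟩
  rw [heq]
  show ratVec K P (T' (g (v i))) = _
  rw [hT', hgv, hT, D.rB_symm_zero (hxw i), mul_zero, zero_smul, add_zero]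

end UData

end Cfsg.Agent.Lib.SUSubfield
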