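import Cfsg.Agent.Lib.SUSubfield.Rat

/-!
Root elements inside an overgroup of a rational special unitary group, and the scalars of such elements.
-/

set_option autoImplicit false

namespace Cfsg.Agent.Lib.SUSubfield

open Matrix Cfsg.Agent.Lib Cfsg.Agent.Lib.SubfieldMax

variable {F : Type*} [Field F] {n : ℕ} {σ : F →+* F} {B : (Fin n → F) → (Fin n → F) → F} {K : Subfield F}
  {P : GL (Fin n) F} {M : Subgroup ((Fin n → F) ≃ₗ[F] (Fin n → F))}

local notation "Vs" => (Fin n → F)
local notation "Ks" => (Fin n → K)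
local notation "ρR" => ratVec K P

/-- The subgroup has the element `x ↦ x + B(x,u) w + (c B(x,u) - B(x,w)) u`. -/
def HasEich (B : (Fin n → F) → (Fin n → F) → F) (M : Subgroup ((Fin n → F) ≃ₗ[F] (Fin n → F)))
    (u w : Fin n → F) (c : F) : Prop :=
  ∃ g ∈ M, ∀ x, g x = x + B x u • w + (c * B x u - B x w) • u

/-- The subgroup lies in the isometry group and contains the rational special isometries. -/
structure Over (D : UData σ B K P) (M : Subgroup ((Fin n → F) ≃ₗ[F] (Fin n → F))) : Prop where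
  iso : ∀ g ∈ M, g ∈ Classical.biIsoGroup B
  rat : ∀ g ∈ Classical.biIsoGroup B, LinearEquiv.det g = 1 →
    (∀ u : Fin n → K, ∃ v, g (ratVec K P u) = ratVec K P v) → g ∈ M

/-- An isotropic vector all of whose transvections with skew scalars in `K` lie in the subgroup. -/
def Centre (σ : F →+* F) (B : (Fin n → F) → (Fin n → F) → F) (K : Subfield F)
    (M : Subgroup ((Fin n → F) ≃ₗ[F] (Fin n → F))) (w : Fin n → F) : Prop :=
  B w w = 0 ∧ ∀ a ∈ K, a + σ a = 0 → HasEich B M w 0 a

/-- Scalars whose rational root elements lie in the subgroup. -/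
def Good (D : UData σ B K P) (M : Subgroup ((Fin n → F) ≃ₗ[F] (Fin n → F))) (c : F) : Prop :=
  ∀ a b : Fin n → K, LinearIndependent K ![a, b] → D.rB a a = 0 → D.rB b b = 0 → D.rB a b = 0 →
    HasEich B M (ratVec K P a) (c • ratVec K P b) 0

/-- A vector on a rational line. -/
def IsRatLine (K : Subfield F) (P : GL (Fin n) F) (w : Fin n → F) : Prop :=
  ∃ (l : F) (u : Fin n → K), w = l • ratVec K P u

theorem hasEich_congr {u w w' : Vs} {c c' : F} (hw : w = w') (hc : c = c') (h : HasEich B M u w c) :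
    HasEich B M u w' c' := hw ▸ hc ▸ h

section Herm

variable (hS : Classical.HermSpace σ B)
include hS

theorem hasEich_mul {u w w' : Vs} {c c' : F} (hu : B u u = 0) (hwu : B w u = 0) (hwu' : B w' u = 0)
    (h : HasEich B M u w c) (h' : HasEich B M u w' c') : HasEich B M u (w + w') (c + c' - B w' w) := by
  obtain ⟨g, hg, e⟩ := h
  obtain ⟨g', hg', e'⟩ := h'
  refine ⟨g * g', M.mul_mem hg hg', fun x => ?_⟩
  have huw : B u w = 0 := by rw [← hS.symm, hwu, map_zero]
  simp only [LinearEquiv.mul_apply, e, e', hS.add_left, hS.add_right, hS.smul_left, hu, hwu', huw]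
  match_scalars <;> ring

theorem hasEich_inv {u w : Vs} {c : F} (hu : B u u = 0) (hwu : B w u = 0) (hc : c + σ c + B w w = 0)
    (h : HasEich B M u w c) : HasEich B M u (-w) (σ c) := by
  obtain ⟨g, hg, e⟩ := h
  refine ⟨g⁻¹, M.inv_mem hg, fun x => ?_⟩
  show g.symm x = _
  rw [LinearEquiv.symm_apply_eq, e]
  have huw : B u w = 0 := by rw [← hS.symm, hwu, map_zero]
  simp only [hS.add_left, hS.smul_left, hS.neg_left, hS.neg_right, hu, hwu, huw]
  match_scalars
  · ring
  · ring
  · linear_combination -(B x u) * hc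

/-- Exchanging the two vectors of a root element. -/
theorem hasEich_swap {a b : Vs} {k : F} (h : HasEich B M a (k • b) 0) : HasEich B M b ((-σ k) • a) 0 := by
  obtain ⟨g, hg, e⟩ := h
  refine ⟨g, hg, fun x => ?_⟩
  rw [e]
  simp only [hS.smul_right, map_neg, hS.invol]
  match_scalars <;> ring

/-- Scaling the centre of a transvection. -/
theorem hasEich_smul_centre {v : Vs} {a d : F} :
    HasEich B M (a • v) 0 d ↔ HasEich B M v 0 (d * (a * σ a)) := by
  have e : ∀ x, x + B x (a • v) • (0 : Vs) + (d * B x (a • v) - B x 0) • (a • v)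
      = x + B x v • (0 : Vs) + (d * (a * σ a) * B x v - B x 0) • v := fun x => by
    simp only [hS.smul_right, hS.zero_right]
    match_scalars <;> ring
  exact exists_congr fun g => and_congr_right fun _ => forall_congr' fun x => by rw [e x]

theorem hasEich_conj (hiso : ∀ g ∈ M, g ∈ Classical.biIsoGroup B) {g : Vs ≃ₗ[F] Vs} (hg : g ∈ M) {u w : Vs}
    {c : F} (h : HasEich B M u w c) : HasEich B M (g u) (g w) c := by
  obtain ⟨k, hk, e⟩ := h
  refine ⟨g * k * g⁻¹, M.mul_mem (M.mul_mem hg hk) (M.inv_mem hg), fun x => ?_⟩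
  obtain ⟨y, rfl⟩ := g.surjective x
  rw [LinearEquiv.mul_apply, LinearEquiv.mul_apply, show g⁻¹ (g y) = y from g.symm_apply_apply y, e,
    hiso g hg, hiso g hg, map_add, map_add, map_smul, map_smul]

end Herm

namespace UData

variable (D : UData σ B K P)
include D

theorem hasEich_rat [Finite F] (hO : Over D M) {u w : Ks} {c : K} (hu : D.rB u u = 0) (hwu : D.rB w u = 0)
    (hc : c + D.rconj c + D.rB w w = 0) : HasEich B M (ρR u) (ρR w) (c : F) := by
  have hcF : (c : F) + σ c + B (ρR w) (ρR w) = 0 := congrArg Subtype.val hc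
  refine ⟨Classical.uEich D.herm (ρR u) (ρR w) c (D.B_rat_zero hu) (D.B_rat_zero hwu) hcF,
    hO.rat _ (Classical.uEich_mem _ _ _ _ _ _ _) (Classical.uEich_det _ _ _ _ _ _ _) fun v =>
      ⟨v + D.rB v u • w + (c * D.rB v u - D.rB v w) • u, ?_⟩, fun x => rfl⟩
  rw [Classical.uEich_apply, ratVec_add, ratVec_add, ratVec_smul, ratVec_smul]
  rfl

theorem centre_rat [Finite F] (hO : Over D M) {u : Ks} (hu : D.rB u u = 0) : Centre σ B K M (ρR u) := by
  refine ⟨D.B_rat_zero hu, fun a ha hskew => ?_⟩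
  have h := D.hasEich_rat hO (u := u) (w := 0) (c := ⟨a, ha⟩) hu (D.rherm.zero_left u)
    (by rw [D.rherm.zero_left, add_zero]; exact Subtype.ext hskew)
  rwa [ratVec_zero] at h

theorem centre_map (hO : Over D M) {g : Vs ≃ₗ[F] Vs} (hg : g ∈ M) {w : Vs} (hw : Centre σ B K M w) :
    Centre σ B K M (g w) := by
  refine ⟨by rw [hO.iso g hg, hw.1], fun a ha hskew => ?_⟩
  have h := hasEich_conj D.herm hO.iso hg (hw.2 a ha hskew)
  rwa [map_zero] at h

theorem hasEich_rat_root [Finite F] (hO : Over D M) {a b : Ks} (ha : D.rB a a = 0) (hb : D.rB b b = 0)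
    (hab : D.rB a b = 0) (k : K) : HasEich B M (ρR a) ((k : F) • ρR b) 0 := by
  have h := D.hasEich_rat hO (u := a) (w := k • b) (c := 0) ha
    (by rw [D.rherm.smul_left, D.rB_symm_zero hab, mul_zero])
    (by rw [map_zero, D.rherm.smul_left, D.rherm.smul_right, hb, mul_zero, mul_zero, add_zero, add_zero])
  rwa [ratVec_smul] at h

theorem good_coe [Finite F] (hO : Over D M) (k : K) : Good D M (k : F) :=
  fun _ _ _ ha hb hab => D.hasEich_rat_root hO ha hb hab k

theorem good_neg {c : F} (hc : Good D M c) : Good D M (-c) := by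
  intro a b hli ha hb hab
  have hli' : LinearIndependent K ![a, -b] := by
    rw [LinearIndependent.pair_iff] at hli ⊢
    intro s t e
    obtain ⟨hs, ht⟩ := hli s (-t) (by simpa using e)
    exact ⟨hs, neg_eq_zero.mp ht⟩
  have h := hc a (-b) hli' ha (by rw [D.rherm.neg_left, D.rherm.neg_right, hb, neg_zero, neg_zero])
    (by rw [D.rherm.neg_right, hab, neg_zero])
  rwa [← neg_one_smul K b, ratVec_smul, smul_smul, show c * ((-1 : K) : F) = -c by push_cast; ring] at h

theorem good_add {c d : F} (hc : Good D M c) (hd : Good D M d) : Good D M (c + d) := by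
  intro a b hli ha hb hab
  have h := hasEich_mul D.herm (D.B_rat_zero ha)
    (by rw [D.herm.smul_left, D.B_rat_zero (D.rB_symm_zero hab), mul_zero])
    (by rw [D.herm.smul_left, D.B_rat_zero (D.rB_symm_zero hab), mul_zero]) (hc a b hli ha hb hab)
    (hd a b hli ha hb hab)
  refine hasEich_congr (add_smul c d _).symm ?_ h
  rw [D.herm.smul_left, D.herm.smul_right, D.B_rat_zero hb, mul_zero, mul_zero]; ring

theorem good_of_pair (hO : Over D M) (hn : 5 ≤ n) {c : F} {a₀ b₀ : Ks} (hli : LinearIndependent K ![a₀, b₀])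
    (ha : D.rB a₀ a₀ = 0) (hb : D.rB b₀ b₀ = 0) (hab : D.rB a₀ b₀ = 0)
    (h : HasEich B M (ρR a₀) (c • ρR b₀) 0) : Good D M c := by
  intro a b hli' ha' hb' hab'
  obtain ⟨g, hg, hd, hrat, hgv⟩ := D.exists_rational_map (k := 2) (by omega) hli hli' (fun i j => by
    fin_cases i <;> fin_cases j <;>
      simp [ha, hb, hab, D.rB_symm_zero hab, ha', hb', hab', D.rB_symm_zero hab'])
  have h1 := hasEich_conj D.herm hO.iso (hO.rat g hg hd hrat) h
  rw [map_smul] at h1
  rwa [show g (ρR a₀) = ρR a from hgv 0, show g (ρR b₀) = ρR b from hgv 1] at h1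

theorem exists_iso_pair [Finite F] (hn : 6 ≤ n) :
    ∃ a b : Ks, LinearIndependent K ![a, b] ∧ D.rB a a = 0 ∧ D.rB b b = 0 ∧ D.rB a b = 0 := by
  obtain ⟨a, -, ha, ha0⟩ := D.exists_iso_perp_notMem (![] : Fin 0 → Ks) ⊥ (by omega) (by rw [finrank_bot]; omega)
  have ha0' : a ≠ 0 := ne_zero_of_notMem ha0
  obtain ⟨b, hb, hbb, hbS⟩ := D.exists_iso_perp_notMem ![a] (Submodule.span K {a}) (by omega)
    (by rw [finrank_span_singleton ha0']; omega)
  exact ⟨a, b, indep_two ha0' hbS, ha, hbb, D.rB_symm_zero (hb 0)⟩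

theorem good_mul [Finite F] (hO : Over D M) (hn : 6 ≤ n) {c d : F} (hc : Good D M c) (hd : Good D M d) :
    Good D M (c * d) := by
  obtain ⟨a, t, hli, ha, ht, hat⟩ := D.exists_iso_pair (by omega)
  obtain ⟨t', ht', ht't, ht'a⟩ := D.exists_partner_perp hli ht (D.rB_symm_zero hat)
  have ha0 : a ≠ 0 := fun e => by
    rw [LinearIndependent.pair_iff] at hli
    exact one_ne_zero (hli 1 0 (by simp [e])).1
  have hspan : Module.finrank K (Submodule.span K ({a, t'} : Set Ks)) ≤ 2 := by
    have h := finrank_range_le_card (R := K) (![a, t'] : Fin 2 → Ks)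
    simp only [Matrix.range_cons, Matrix.range_empty, Set.union_empty, ← Set.insert_eq, Fintype.card_fin] at h
    exact h
  obtain ⟨b', hb', hbb, hbS⟩ := D.exists_iso_perp_notMem_rad ![a, t, t'] (Submodule.span K {a, t'}) (R := 1)
    (D.finrank_rad_triple ht hat (D.rB_symm_zero ht'a) ha ht't) (by omega) (by omega)
  have hba : D.rB b' a = 0 := hb' 0
  have hbt : D.rB b' t = 0 := hb' 1
  have hbt' : D.rB b' t' = 0 := hb' 2
  have ht'0 : t' ≠ 0 := fun e => by rw [e, D.rherm.zero_left] at ht't; exact zero_ne_one ht't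
  have hli1 : LinearIndependent K ![t', b'] :=
    indep_two ht'0 fun h => hbS (Submodule.span_mono (by simp) h)
  have hli2 : LinearIndependent K ![a, b'] :=
    indep_two ha0 fun h => hbS (Submodule.span_mono (by simp) h)
  obtain ⟨X, hX, eX⟩ := hc a t hli ha ht hat
  have e1 : X (ρR t') = ρR t' + (-σ c) • ρR a := by
    rw [eX, D.B_rat_zero ht'a, D.herm.smul_right, D.B_rat_one ht't]
    simp
  have e2 : X (ρR b') = ρR b' := by
    rw [eX, D.B_rat_zero hba, D.herm.smul_right, D.B_rat_zero hbt]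
    simp
  have h1 := hasEich_conj D.herm hO.iso hX (hd t' b' hli1 ht' hbb (D.rB_symm_zero hbt'))
  rw [map_smul, e1, e2] at h1
  have h2 := hasEich_swap D.herm h1
  have h3 := hasEich_swap D.herm (hd t' b' hli1 ht' hbb (D.rB_symm_zero hbt'))
  have z0 : B (ρR b') (ρR b') = 0 := D.B_rat_zero hbb
  have z1 : B (ρR t') (ρR b') = 0 := D.B_rat_zero (D.rB_symm_zero hbt')
  have z2 : B (ρR a) (ρR b') = 0 := D.B_rat_zero (D.rB_symm_zero hba)
  have h4 := hasEich_inv D.herm z0 (by rw [D.herm.smul_left, z1, mul_zero])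
    (by rw [map_zero, D.herm.smul_left, D.herm.smul_right, D.B_rat_zero ht']; ring) h3
  have h5 := hasEich_mul D.herm z0
    (by rw [D.herm.neg_left, D.herm.smul_left, z1, mul_zero, neg_zero])
    (by rw [D.herm.smul_left, D.herm.add_left, D.herm.smul_left, z1, z2]; ring) h4 h2
  have w0 : B (ρR t') (ρR t') = 0 := D.B_rat_zero ht'
  have w1 : B (ρR a) (ρR t') = 0 := D.B_rat_zero (D.rB_symm_zero ht'a)
  have h6 : HasEich B M (ρR b') ((σ d * σ c) • ρR a) 0 := by
    refine hasEich_congr (by module) ?_ h5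
    simp only [map_zero, D.herm.neg_right, D.herm.smul_left, D.herm.smul_right, D.herm.add_left, w0, w1]
    ring
  have h7 := hasEich_swap D.herm h6
  rw [map_mul, D.herm.invol, D.herm.invol] at h7
  have h8 := D.good_of_pair hO (by omega) hli2 ha hbb (D.rB_symm_zero hba) h7
  have h9 := D.good_neg h8
  rwa [neg_neg, mul_comm] at h9

theorem good_all [Finite F] (hO : Over D M) (hn : 6 ≤ n) (r : ℕ) (hr : r.Prime)
    (hcard : Nat.card F = Nat.card K ^ r) {c : F} (hc : c ∉ K) (hgood : Good D M c) (x : F) : Good D M x := by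
  let S : Subalgebra K F :=
    { carrier := {x | Good D M x}
      mul_mem' := fun ha hb => D.good_mul hO hn ha hb
      one_mem' := by simpa using D.good_coe hO 1
      add_mem' := fun ha hb => D.good_add ha hb
      zero_mem' := by simpa using D.good_coe hO 0
      algebraMap_mem' := fun a => D.good_coe hO a }
  haveI : Module.Finite K F := Module.Finite.of_finite
  have hdim : Module.finrank K F = r := by
    have h := Module.natCard_eq_pow_finrank (K := K) (V := F)
    rw [hcard] at h
    exact (Nat.pow_right_injective Finite.one_lt_card h).symm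
  have h := Subalgebra.isSimpleOrder_of_finrank_prime K F (hdim ▸ hr)
  rcases h.eq_bot_or_eq_top S with e | e
  · exfalso
    have hcS : c ∈ (⊥ : Subalgebra K F) := e ▸ (hgood : c ∈ S)
    obtain ⟨a, ha⟩ := Algebra.mem_bot.mp hcS
    exact hc (ha ▸ a.2)
  · exact (e ▸ Algebra.mem_top : x ∈ S)

end UData

end Cfsg.Agent.Lib.SUSubfield
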